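import Groth.Agent.Lib.WLocal.Retract
import Groth.Agent.Lib.IndEtale.Zariski

/-!
Retractions over a quotient and over a localization at the points specializing to a closed set.
-/

set_option autoImplicit false

universe u

open TensorProduct

namespace Groth.Agent.Lib.WLocal.RetractLoc

open IndEtale

variable {A : Type u} [CommRing A]

theorem hasEtaleRetractions_quotient (h : ProEtW.HasEtaleRetractions A) (I : Ideal A) :
    ProEtW.HasEtaleRetractions (A ⧸ I) := by
  intro B _ _ hff hEt
  obtain ⟨E, _, _, φ, hE, hφ, hψ⟩ := Retract.exists_lift_etale I B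
  refine (Retract.exists_hom_etale h (L := A ⧸ I) I ?_ ?_).elim hψ
  · rw [show algebraMap A (A ⧸ I) = Ideal.Quotient.mk I from rfl, Ideal.map_quotient_self]
    exact bot_le
  · intro x hx
    obtain ⟨p, rfl⟩ : x ∈ Set.range (PrimeSpectrum.comap (Ideal.Quotient.mk I)) := by
      rw [range_comap_of_surjective _ _ Ideal.Quotient.mk_surjective, Ideal.mk_ker]
      exact hx
    obtain ⟨q, rfl⟩ := PrimeSpectrum.comap_surjective_of_faithfullyFlat (B := B) p
    refine ⟨PrimeSpectrum.comap φ q, ?_⟩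
    rw [← PrimeSpectrum.comap_comp_apply, hφ, PrimeSpectrum.comap_comp_apply]

/-- The set whose generalisations form the spectrum of the localization lies in the Jacobson
radical of the localization. -/
lemma mem_jacobson (B : Type u) [CommRing B] [Algebra A B] (S : Submonoid A) [IsLocalization S B]
    (Z : Set A) (hB : Set.range (PrimeSpectrum.comap (algebraMap A B)) =
      {x | ∃ z : PrimeSpectrum A, z ∈ PrimeSpectrum.zeroLocus Z ∧ x ⤳ z})
    (a : A) (ha : a ∈ Z) : algebraMap A B a ∈ Ideal.jacobson (⊥ : Ideal B) := by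
  refine Submodule.mem_sInf.mpr fun M hM => ?_
  obtain ⟨-, hM⟩ := hM
  let y : PrimeSpectrum B := ⟨M, hM.isPrime⟩
  obtain ⟨z, hz, hyz⟩ :
      ∃ z, z ∈ PrimeSpectrum.zeroLocus Z ∧ PrimeSpectrum.comap (algebraMap A B) y ⤳ z :=
    hB.le ⟨y, rfl⟩
  obtain ⟨y', rfl⟩ : z ∈ Set.range (PrimeSpectrum.comap (algebraMap A B)) :=
    hB.ge ⟨z, hz, specializes_rfl⟩
  rw [(PrimeSpectrum.localization_comap_isEmbedding B S).toIsInducing.specializes_iff,
    ← PrimeSpectrum.le_iff_specializes] at hyz
  have : M = y'.asIdeal := hM.eq_of_le y'.2.ne_top hyz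
  exact this ▸ hz ha

lemma subset_range (B : Type u) [CommRing B] [Algebra A B] (Z : Set A)
    (hB : Set.range (PrimeSpectrum.comap (algebraMap A B)) =
      {x | ∃ z : PrimeSpectrum A, z ∈ PrimeSpectrum.zeroLocus Z ∧ x ⤳ z})
    (C : Type u) [CommRing C] [Algebra B C] [Module.FaithfullyFlat B C] :
    PrimeSpectrum.zeroLocus Z ⊆
      Set.range (PrimeSpectrum.comap ((algebraMap B C).comp (algebraMap A B))) := by
  intro x hx
  obtain ⟨p, rfl⟩ := hB.ge ⟨x, hx, specializes_rfl⟩
  obtain ⟨q, rfl⟩ := PrimeSpectrum.comap_surjective_of_faithfullyFlat (B := C) p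
  exact ⟨q, PrimeSpectrum.comap_comp_apply _ _ _⟩

/-- Etale algebras all whose maps are unique. -/
def epiEtale (A : Type u) [CommRing A] : Crit.AlgProp A := fun E _ _ =>
  Algebra.Etale A E ∧ ∀ (R : Type u) [CommRing R] [Algebra A R] (f g : E →ₐ[A] R), f = g

theorem hasEtaleRetractions_localization (B : Type u) [CommRing B] [Algebra A B] (S : Submonoid A)
    [IsLocalization S B] (I : Ideal A)
    (hB : Set.range (PrimeSpectrum.comap (algebraMap A B)) =
      {x | ∃ z : PrimeSpectrum A, z ∈ PrimeSpectrum.zeroLocus (R := A) I ∧ x ⤳ z})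
    (hA : ProEtW.HasEtaleRetractions A) : ProEtW.HasEtaleRetractions B := by
  have hP : Crit.Factors (epiEtale A) B := by
    refine Zariski.factors_localization (fun E _ _ h => ?_) ?_ (Crit.Factors.of_prop (B := A) ?_) S B
    · have := h.1
      infer_instance
    · intro E _ _ e h
      have := h.1
      refine ⟨inferInstance, fun R _ _ f g => ?_⟩
      refine IsLocalization.algHom_ext (Submonoid.powers e) ?_
      exact h.2 R _ _
    · exact ⟨inferInstance, fun R _ _ f g => AlgHom.ext fun x => (f.commutes x).trans (g.commutes x).symm⟩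
  intro C _ _ hff hEt
  obtain ⟨B₀, C₀, _, _, hfg, hEt0, ⟨e⟩⟩ := Algebra.Etale.exists_subalgebra_fg (R := ℤ) (A := B) (B := C)
  obtain ⟨E0, _, _, ⟨hE0, huniq⟩, v, φ, hvφ⟩ := hP.exists_lift_subalgebra B₀ hfg
  letI : Algebra B₀ E0 := φ.toAlgebra
  let vB : E0 →ₐ[B₀] B := { v.toRingHom with commutes' := hvφ }
  haveI : Algebra.Etale A (E0 ⊗[B₀] C₀) := Algebra.Etale.comp A E0 (E0 ⊗[B₀] C₀)
  let g : E0 ⊗[B₀] C₀ →+* C :=
    e.symm.toRingEquiv.toRingHom.comp (Algebra.TensorProduct.map vB (AlgHom.id B₀ C₀)).toRingHom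
  have hg : g.comp (algebraMap A (E0 ⊗[B₀] C₀)) = (algebraMap B C).comp (algebraMap A B) := by
    refine RingHom.ext fun a => ?_
    change e.symm (vB (algebraMap A E0 a) ⊗ₜ 1) = _
    rw [show vB (algebraMap A E0 a) = algebraMap A B a from v.commutes a, RingHom.comp_apply,
      show algebraMap A B a ⊗ₜ[B₀] (1 : C₀) = algebraMap B (B ⊗[B₀] C₀) (algebraMap A B a) from rfl,
      AlgEquiv.commutes]
  obtain ⟨ψ⟩ := Retract.exists_hom_etale hA (L := B) (E := E0 ⊗[B₀] C₀) I
    (by
      rw [Ideal.map_le_iff_le_comap]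
      exact fun a ha => mem_jacobson B S _ hB a ha)
    (fun x hx => by
      obtain ⟨q, rfl⟩ := subset_range B _ hB C hx
      exact ⟨PrimeSpectrum.comap g q, by rw [← PrimeSpectrum.comap_comp_apply, hg]⟩)
  have hψ : ∀ x : E0, ψ (x ⊗ₜ 1) = v x := fun x => congr($(huniq B
    (ψ.comp (IsScalarTower.toAlgHom A E0 (E0 ⊗[B₀] C₀))) v) x)
  let ψ₀ : C₀ →ₐ[B₀] B :=
    { ψ.toRingHom.comp Algebra.TensorProduct.includeRight.toRingHom with
      commutes' := fun b => by
        change ψ (1 ⊗ₜ algebraMap B₀ C₀ b) = _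
        rw [Algebra.algebraMap_eq_smul_one, ← TensorProduct.smul_tmul, ← Algebra.algebraMap_eq_smul_one,
          RingHom.algebraMap_toAlgebra, hψ]
        exact hvφ b }
  exact ⟨(Algebra.TensorProduct.lift (AlgHom.id B B) ψ₀ fun _ _ => Commute.all _ _).comp e.toAlgHom⟩

theorem weaklyEtale_of_isLocalization (B : Type u) [CommRing B] [Algebra A B] (S : Submonoid A)
    [IsLocalization S B] : Algebra.WeaklyEtale A B := by
  have hepi : Algebra.IsEpi A B := by
    refine (Algebra.isEpi_iff_forall_one_tmul_eq A B).mpr fun a => ?_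
    obtain ⟨⟨x, t⟩, hx⟩ := IsLocalization.surj S a
    have hu : IsUnit (algebraMap A (B ⊗[A] B) t) := by
      rw [IsScalarTower.algebraMap_apply A B (B ⊗[A] B)]
      exact (IsLocalization.map_units B t).map _
    refine hu.mul_left_cancel ?_
    rw [← Algebra.smul_def, ← Algebra.smul_def]
    calc (t : A) • ((1 : B) ⊗ₜ[A] a) = (1 : B) ⊗ₜ[A] (a * algebraMap A B t) := by
          rw [← TensorProduct.tmul_smul, Algebra.smul_def, mul_comm]
      _ = (a * algebraMap A B t) ⊗ₜ[A] (1 : B) := by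
          rw [hx, Algebra.algebraMap_eq_smul_one, TensorProduct.smul_tmul]
      _ = (t : A) • (a ⊗ₜ[A] (1 : B)) := by
          rw [TensorProduct.smul_tmul', Algebra.smul_def, mul_comm]
  refine { flat := IsLocalization.flat B S, flat_lmul' := ?_ }
  exact RingHom.Flat.of_bijective ⟨hepi.injective_lift_mul, fun b => ⟨b ⊗ₜ 1, by simp⟩⟩

theorem isWContractible_localization (B : Type u) [CommRing B] [Algebra A B] (S : Submonoid A)
    [IsLocalization S B] (F : Finset A)
    (hB : Set.range (PrimeSpectrum.comap (algebraMap A B)) =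
      {x | ∃ z : PrimeSpectrum A, z ∈ PrimeSpectrum.zeroLocus (R := A) F ∧ x ⤳ z})
    (hA : EtPBC.IsWContractible A) : EtPBC.IsWContractible B := by
  intro C _ _ hff hwe
  letI : Algebra A C := ((algebraMap B C).comp (algebraMap A B)).toAlgebra
  haveI : IsScalarTower A B C := .of_algebraMap_eq fun _ => rfl
  haveI : Algebra.WeaklyEtale A B := weaklyEtale_of_isLocalization B S
  haveI : Algebra.WeaklyEtale A C := Algebra.WeaklyEtale.trans A B C
  obtain ⟨ψ⟩ := Retract.exists_hom_weaklyEtale hA (E := C) (L := B) F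
    (fun f hf => mem_jacobson B S _ hB f hf) (subset_range B _ hB C)
  refine ⟨{ ψ.toRingHom with commutes' := fun b => ?_ }⟩
  exact congr($(IsLocalization.algHom_ext (A := A) S (f := ψ.comp (IsScalarTower.toAlgHom A B C))
    (g := AlgHom.id A B) (Subsingleton.elim _ _)) b)

end Groth.Agent.Lib.WLocal.RetractLoc
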