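import Groth.Agent.Lib.Spectral.Subspace
import Groth.Agent.Lib.Spectral.Product
import Mathlib.Order.Disjointed
import Mathlib.Topology.Connected.Separation
import Mathlib.Topology.Separation.Profinite

/-!
Connected components of spectral spaces, w-local spaces.
-/

set_option autoImplicit false

namespace Groth.Agent.Lib.WLocal.Components

open Set TopologicalSpace Topology
open Groth.Agent.Lib.Spectral

variable {X : Type*} [TopologicalSpace X]

/-- A clopen subset contains the connected component of each of its points, Stacks 005F. -/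
theorem connectedComponent_eq_iInter_isClopen [CompactSpace X] [QuasiSeparatedSpace X]
    [PrespectralSpace X] (x : X) :
    connectedComponent x = ⋂ s : {s : Set X // IsClopen s ∧ x ∈ s}, (s : Set X) := by
  apply subset_antisymm connectedComponent_subset_iInter_isClopen
  refine IsPreconnected.subset_connectedComponent ?_ (mem_iInter.mpr fun s => s.2.2)
  set S := ⋂ s : {s : Set X // IsClopen s ∧ x ∈ s}, (s : Set X) with hS
  have hSc : IsClosed S := isClosed_iInter fun s => s.2.1.1
  rw [isPreconnected_iff_subset_of_fully_disjoint_closed hSc]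
  intro B C hB hC hSBC hBC
  have : Nonempty {s : Set X // IsClopen s ∧ x ∈ s} := ⟨⟨univ, isClopen_univ, mem_univ _⟩⟩
  have hdir : Directed (· ⊇ ·) fun s : {s : Set X // IsClopen s ∧ x ∈ s} => (s : Set X) :=
    fun a b => ⟨⟨a.1 ∩ b.1, a.2.1.inter b.2.1, a.2.2, b.2.2⟩, inter_subset_left,
      inter_subset_right⟩
  obtain ⟨U, hUc, hUo, hBU, hUC⟩ := PrespectralSpace.exists_isCompact_and_isOpen_between
    ((hB.inter hSc).isCompact) hC.isOpen_compl
    (fun z hz hz' => (Set.disjoint_left.mp hBC) hz.1 hz')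
  obtain ⟨V, hVc, hVo, hCV, hVB⟩ := PrespectralSpace.exists_isCompact_and_isOpen_between
    ((hC.inter hSc).isCompact) hB.isOpen_compl
    (fun z hz hz' => (Set.disjoint_right.mp hBC) hz.1 hz')
  have hUV : (U ∩ V) ∩ ⋂ s : {s : Set X // IsClopen s ∧ x ∈ s}, (s : Set X) = ∅ := by
    rw [← hS]
    refine eq_empty_of_forall_notMem fun z hz => ?_
    rcases hSBC hz.2 with h | h
    · exact hVB hz.1.2 h
    · exact hUC hz.1.1 h
  obtain ⟨Z, hZ⟩ := (hUc.inter_of_isOpen hVc hUo hVo).elim_directed_family_closed _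
    (fun s => s.2.1.1) hUV hdir
  have hcov : univ ∩ (U ∪ V)ᶜ ∩ ⋂ s : {s : Set X // IsClopen s ∧ x ∈ s}, (s : Set X) = ∅ := by
    rw [← hS]
    refine eq_empty_of_forall_notMem fun z hz => hz.1.2 ?_
    rcases hSBC hz.2 with h | h
    · exact Or.inl (hBU ⟨h, hz.2⟩)
    · exact Or.inr (hCV ⟨h, hz.2⟩)
  obtain ⟨Z', hZ'⟩ := ((isClosed_univ.inter (hUo.union hVo).isClosed_compl).isCompact
    ).elim_directed_family_closed _ (fun s => s.2.1.1) hcov hdir
  let W : Set X := Z.1 ∩ Z'.1
  have hW : IsClopen W := Z.2.1.inter Z'.2.1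
  have hxW : x ∈ W := ⟨Z.2.2, Z'.2.2⟩
  have hWUV : W ⊆ U ∪ V := fun z hz => by
    by_contra h
    exact eq_empty_iff_forall_notMem.mp hZ' z ⟨⟨mem_univ _, h⟩, hz.2⟩
  have hWd : ∀ z ∈ W, z ∈ U → z ∉ V := fun z hz hU hV =>
    eq_empty_iff_forall_notMem.mp hZ z ⟨⟨hU, hV⟩, hz.1⟩
  have h1 : IsClopen (W ∩ U) := by
    refine ⟨?_, hW.2.inter hUo⟩
    have : W ∩ U = W ∩ Vᶜ := by
      ext z
      exact ⟨fun h => ⟨h.1, hWd z h.1 h.2⟩, fun h => ⟨h.1, (hWUV h.1).resolve_right h.2⟩⟩
    rw [this]
    exact hW.1.inter hVo.isClosed_compl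
  rcases hWUV hxW with h | h
  · refine Or.inl fun z hz => ?_
    have : z ∈ W ∩ U := mem_iInter.mp hz ⟨_, h1, hxW, h⟩
    exact (hSBC hz).resolve_right fun hz' => hUC this.2 hz'
  · have h2 : IsClopen (W ∩ (W ∩ U)ᶜ) := hW.inter h1.compl
    refine Or.inr fun z hz => ?_
    have : z ∈ W ∩ (W ∩ U)ᶜ :=
      mem_iInter.mp hz ⟨_, h2, hxW, fun h' => hWd x hxW h'.2 h⟩
    exact (hSBC hz).resolve_left fun hz' =>
      hVB ((hWUV this.1).resolve_left fun hU => this.2 ⟨this.1, hU⟩) hz'

/-- Points in different components are separated by a clopen. -/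
theorem exists_isClopen_separating [CompactSpace X] [QuasiSeparatedSpace X]
    [PrespectralSpace X] {x y : X} (h : y ∉ connectedComponent x) :
    ∃ s : Set X, IsClopen s ∧ x ∈ s ∧ y ∉ s := by
  rw [connectedComponent_eq_iInter_isClopen, mem_iInter, not_forall] at h
  obtain ⟨⟨s, hs, hx⟩, hy⟩ := h
  exact ⟨s, hs, hx, hy⟩

lemma preimage_image_mk {s : Set X} (hs : IsClopen s) :
    ConnectedComponents.mk ⁻¹' (ConnectedComponents.mk '' s) = s := by
  rw [connectedComponents_preimage_image, hs.biUnion_connectedComponent_eq]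

lemma isClopen_image_mk {s : Set X} (hs : IsClopen s) :
    IsClopen (ConnectedComponents.mk '' s : Set (ConnectedComponents X)) := by
  rw [← ConnectedComponents.isQuotientMap_coe.isClopen_preimage, preimage_image_mk hs]
  exact hs

theorem totallySeparatedSpace_connectedComponents [CompactSpace X] [QuasiSeparatedSpace X]
    [PrespectralSpace X] : TotallySeparatedSpace (ConnectedComponents X) := by
  rw [totallySeparatedSpace_iff_exists_isClopen]
  intro a b hab
  obtain ⟨x, rfl⟩ := ConnectedComponents.surjective_coe a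
  obtain ⟨y, rfl⟩ := ConnectedComponents.surjective_coe b
  obtain ⟨s, hs, hx, hy⟩ := exists_isClopen_separating (x := x) (y := y)
    (fun h => hab (ConnectedComponents.coe_eq_coe'.mpr h).symm)
  refine ⟨_, isClopen_image_mk hs, mem_image_of_mem _ hx, fun h => hy ?_⟩
  rw [← preimage_image_mk hs]
  exact h

theorem t2Space_connectedComponents [CompactSpace X] [QuasiSeparatedSpace X]
    [PrespectralSpace X] : T2Space (ConnectedComponents X) :=
  have := totallySeparatedSpace_connectedComponents (X := X)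
  inferInstance

/-- The generalizations of a compact set are closed in the constructible topology. -/
lemma isClosed_cons_setOf_specializes [PrespectralSpace X] {K : Set X} (hK : IsCompact K) :
    IsClosed[constructibleTopology X] {x | ∃ k ∈ K, x ⤳ k} := by
  have : {x | ∃ k ∈ K, x ⤳ k} = ⋂ W : {W : Set X // IsOpen W ∧ IsCompact W ∧ K ⊆ W}, W.1 := by
    refine subset_antisymm (fun x ⟨k, hk, hxk⟩ => mem_iInter.mpr fun W =>
      hxk.mem_open W.2.1 (W.2.2.2 hk)) fun x hx => ?_
    by_contra hne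
    simp only [mem_ofPred_eq, not_exists, not_and] at hne
    obtain ⟨W, hWc, hWo, hKW, hWx⟩ := PrespectralSpace.exists_isCompact_and_isOpen_between hK
      (isClosed_closure (s := ({x} : Set X))).isOpen_compl
      (fun k hk hk' => hne k hk (specializes_iff_mem_closure.mpr hk'))
    exact hWx (mem_iInter.mp hx ⟨W, hWo, hWc, hKW⟩) (subset_closure rfl)
  rw [this]
  exact @isClosed_iInter X _ (constructibleTopology X) _ fun W =>
    Basic.isClosed_cons W.2.1 W.2.2.1

/-- Stacks 0A... : clopen decompositions lift from a closed subset meeting all closures in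
connected sets. -/
theorem exists_isClopen_lift [SpectralSpace X] (Z : Set X) (hZ : IsClosed Z)
    (hconn : ∀ x : X, IsConnected (Z ∩ closure {x}))
    (Z₁ Z₂ : Set X) (h₁ : IsClosed Z₁) (h₂ : IsClosed Z₂) (hdisj : Disjoint Z₁ Z₂)
    (hunion : Z₁ ∪ Z₂ = Z) :
    ∃ X₁ X₂ : Set X, IsClosed X₁ ∧ IsClosed X₂ ∧ Disjoint X₁ X₂ ∧ X₁ ∪ X₂ = univ ∧
      Z₁ = Z ∩ X₁ ∧ Z₂ = Z ∩ X₂ := by
  have dich : ∀ x, Z ∩ closure {x} ⊆ Z₁ ∨ Z ∩ closure {x} ⊆ Z₂ := fun x =>
    (isPreconnected_iff_subset_of_fully_disjoint_closed (hZ.inter isClosed_closure)).mp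
      (hconn x).2 Z₁ Z₂ h₁ h₂ (hunion ▸ inter_subset_left) hdisj
  have key : ∀ A B : Set X, IsClosed A → A ⊆ Z → Disjoint A B →
      (∀ x, Z ∩ closure {x} ⊆ A ∨ Z ∩ closure {x} ⊆ B) →
      IsClosed {x | Z ∩ closure {x} ⊆ A} := by
    intro A B hA hAZ hAB hd
    have heq : {x | Z ∩ closure {x} ⊆ A} = {x | ∃ k ∈ A, x ⤳ k} := by
      ext x
      constructor
      · intro h
        obtain ⟨k, hk⟩ := (hconn x).1
        exact ⟨k, h hk, specializes_iff_mem_closure.mpr hk.2⟩
      · rintro ⟨k, hk, hxk⟩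
        refine (hd x).resolve_right fun h => ?_
        exact Set.disjoint_left.mp hAB hk (h ⟨hAZ hk, hxk.mem_closure⟩)
    refine Basic.isClosed_of_isClosed_cons ?_ ?_
    · rw [heq]; exact isClosed_cons_setOf_specializes hA.isCompact
    · intro a b hab ha z hz
      exact ha ⟨hz.1, closure_minimal (singleton_subset_iff.mpr hab.mem_closure)
        isClosed_closure hz.2⟩
  refine ⟨{x | Z ∩ closure {x} ⊆ Z₁}, {x | Z ∩ closure {x} ⊆ Z₂},
    key Z₁ Z₂ h₁ (hunion ▸ subset_union_left) hdisj dich,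
    key Z₂ Z₁ h₂ (hunion ▸ subset_union_right) hdisj.symm fun x => (dich x).symm, ?_, ?_, ?_, ?_⟩
  · refine Set.disjoint_left.mpr fun x hx hx' => ?_
    obtain ⟨k, hk⟩ := (hconn x).1
    exact Set.disjoint_left.mp hdisj (hx hk) (hx' hk)
  · exact eq_univ_of_forall fun x => dich x
  · refine Set.ext fun z => ⟨fun hz => ⟨hunion ▸ Or.inl hz, ?_⟩, fun hz => hz.2 ⟨hz.1, subset_closure rfl⟩⟩
    exact fun w hw => closure_minimal (singleton_subset_iff.mpr hz) h₁ hw.2
  · refine Set.ext fun z => ⟨fun hz => ⟨hunion ▸ Or.inr hz, ?_⟩, fun hz => hz.2 ⟨hz.1, subset_closure rfl⟩⟩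
    exact fun w hw => closure_minimal (singleton_subset_iff.mpr hz) h₂ hw.2

/-- A spectral space all of whose points are closed is profinite. -/
theorem totallySeparatedSpace_of_t1 [SpectralSpace X] [T1Space X] : TotallySeparatedSpace X := by
  rw [totallySeparatedSpace_iff_exists_isClopen]
  intro x y h
  obtain ⟨U, hUo, hUc, hU⟩ := Basic.exists_compactOpen_separating h
  have hcl : IsClopen U := ⟨Basic.isClosed_of_isClosed_cons (Basic.isClosed_cons hUo hUc)
    (fun a b hab ha => (specializes_iff_eq.mp hab) ▸ ha), hUo⟩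
  rcases hU with ⟨hx, hy⟩ | ⟨hy, hx⟩
  · exact ⟨U, hcl, hx, hy⟩
  · exact ⟨Uᶜ, hcl.compl, hx, by simpa using hy⟩

/-- In a space whose closed points form a closed set and every point specializes to exactly one
closed point, each connected component has exactly one closed point. -/
theorem bijective_mk_closedPoints [SpectralSpace X]
    (h0 : IsClosed {x : X | IsClosed ({x} : Set X)})
    (huniq : ∀ x : X, ∃! z : X, IsClosed ({z} : Set X) ∧ x ⤳ z) :
    Function.Bijective
      (fun x : {x : X // IsClosed ({x} : Set X)} => ConnectedComponents.mk x.1) := by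
  set Z := {x : X | IsClosed ({x} : Set X)}
  constructor
  · rintro ⟨a, ha⟩ ⟨b, hb⟩ hab
    by_contra hne
    have : SpectralSpace Z := Subspace.spectralSpace (Basic.isClosed_cons_of_isClosed h0)
    have : T1Space Z := ⟨fun z => by
      convert z.2.preimage continuous_subtype_val
      ext w
      simp [Subtype.ext_iff]⟩
    have := totallySeparatedSpace_of_t1 (X := Z)
    obtain ⟨s, hs, has, hbs⟩ := exists_isClopen_of_totally_separated
      (show (⟨a, ha⟩ : Z) ≠ ⟨b, hb⟩ from fun h => hne (Subtype.ext congr($(h).1)))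
    have hconn : ∀ x, IsConnected (Z ∩ closure {x}) := fun x => by
      obtain ⟨z, hz, hzu⟩ := huniq x
      have : Z ∩ closure {x} = {z} := subset_antisymm
        (fun w hw => hzu w ⟨hw.1, specializes_iff_mem_closure.mpr hw.2⟩)
        (singleton_subset_iff.mpr ⟨hz.1, hz.2.mem_closure⟩)
      rw [this]
      exact isConnected_singleton
    obtain ⟨X₁, X₂, h1, h2, hd, hu, e1, e2⟩ := exists_isClopen_lift Z h0 hconn
      (Subtype.val '' s) (Subtype.val '' sᶜ)
      (h0.isClosedEmbedding_subtypeVal.isClosedMap _ hs.1)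
      (h0.isClosedEmbedding_subtypeVal.isClosedMap _ hs.compl.1)
      ((disjoint_image_iff Subtype.val_injective).mpr disjoint_compl_right)
      (by rw [← image_union, union_compl_self, image_univ, Subtype.range_coe])
    have hX₁ : IsClopen X₁ := ⟨h1, by
      rw [show X₁ = X₂ᶜ from IsCompl.eq_compl ⟨hd, codisjoint_iff.mpr hu⟩]
      exact h2.isOpen_compl⟩
    have ha1 : a ∈ X₁ := (e1 ▸ mem_image_of_mem Subtype.val has : a ∈ Z ∩ X₁).2
    have hb2 : b ∈ X₂ := (e2 ▸ mem_image_of_mem Subtype.val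
      (show (⟨b, hb⟩ : Z) ∈ sᶜ from hbs) : b ∈ Z ∩ X₂).2
    have hcomp := hX₁.connectedComponent_subset ha1
    exact Set.disjoint_left.mp hd (hcomp (ConnectedComponents.coe_eq_coe'.mp hab.symm)) hb2
  · intro c
    obtain ⟨x, rfl⟩ := ConnectedComponents.surjective_coe c
    obtain ⟨z, hz, hzc⟩ :=
      (isClosed_connectedComponent (x := x)).exists_closed_singleton ⟨x, mem_connectedComponent⟩
    exact ⟨⟨z, hzc⟩, ConnectedComponents.coe_eq_coe'.mpr hz⟩

/-- Every open cover refines to a disjoint clopen cover iff each component has one closed point. -/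
theorem refinement_iff [SpectralSpace X] :
    (∀ (ι : Type _) (U : ι → Set X), (∀ i, IsOpen (U i)) → (⋃ i, U i) = Set.univ →
      ∃ (n : ℕ) (V : Fin n → Set X), (∀ k, IsClopen (V k)) ∧
        Pairwise (fun k l => Disjoint (V k) (V l)) ∧ (⋃ k, V k) = Set.univ ∧ ∀ k, ∃ i, V k ⊆ U i) ↔
    Function.Bijective
      (fun x : {x : X // IsClosed ({x} : Set X)} => ConnectedComponents.mk x.1) := by
  constructor
  · intro h
    refine ⟨?_, fun c => ?_⟩
    · rintro ⟨a, ha⟩ ⟨b, hb⟩ hab
      by_contra hne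
      have hab' : a ≠ b := fun h => hne (Subtype.ext h)
      obtain ⟨n, V, hV, -, hu, hsub⟩ := h (ULift Bool) (fun i => if i.down then {a}ᶜ else {b}ᶜ)
        (fun i => by split <;> simp [ha.isOpen_compl, hb.isOpen_compl]) (eq_univ_of_forall fun z => by
          by_cases hz : z = a
          · exact mem_iUnion.mpr ⟨⟨false⟩, by simp [hz, hab']⟩
          · exact mem_iUnion.mpr ⟨⟨true⟩, by simpa using hz⟩)
      obtain ⟨k, hk⟩ := mem_iUnion.mp (hu ▸ mem_univ a : a ∈ ⋃ k, V k)
      have hbk : b ∈ V k :=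
        (hV k).connectedComponent_subset hk (ConnectedComponents.coe_eq_coe'.mp hab.symm)
      obtain ⟨⟨_ | _⟩, hi⟩ := hsub k
      · simpa using hi hbk
      · simpa using hi hk
    · obtain ⟨x, rfl⟩ := ConnectedComponents.surjective_coe c
      obtain ⟨z, hz, hzc⟩ :=
        (isClosed_connectedComponent (x := x)).exists_closed_singleton ⟨x, mem_connectedComponent⟩
      exact ⟨⟨z, hzc⟩, ConnectedComponents.coe_eq_coe'.mpr hz⟩
  · intro hbij ι U hUo hU
    have hloc : ∀ x : X, ∃ s : Set X, IsClopen s ∧ x ∈ s ∧ ∃ i, s ⊆ U i := by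
      intro x
      obtain ⟨⟨c, hc⟩, hcx⟩ := hbij.2 (ConnectedComponents.mk x)
      obtain ⟨i, hi⟩ := mem_iUnion.mp (hU ▸ mem_univ c : c ∈ ⋃ i, U i)
      have hsub : connectedComponent x ⊆ U i := fun y hy => by
        obtain ⟨z, hz, hzc⟩ := (isClosed_closure (s := ({y} : Set X))).exists_closed_singleton
          ⟨y, subset_closure rfl⟩
        have hzy : z ∈ connectedComponent x :=
          closure_minimal (singleton_subset_iff.mpr hy) isClosed_connectedComponent hz
        have : (⟨z, hzc⟩ : {x : X // IsClosed ({x} : Set X)}) = ⟨c, hc⟩ :=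
          hbij.1 ((ConnectedComponents.coe_eq_coe'.mpr hzy).trans hcx.symm)
        obtain rfl : z = c := congr($(this).1)
        exact (specializes_iff_mem_closure.mpr hz).mem_open (hUo i) hi
      rw [connectedComponent_eq_iInter_isClopen] at hsub
      have hne : (univ ∩ (U i)ᶜ) ∩ ⋂ s : {s : Set X // IsClopen s ∧ x ∈ s}, (s : Set X) = ∅ :=
        eq_empty_of_forall_notMem fun y hy => hy.1.2 (hsub hy.2)
      have : Nonempty {s : Set X // IsClopen s ∧ x ∈ s} := ⟨⟨univ, isClopen_univ, mem_univ _⟩⟩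
      obtain ⟨s, hs⟩ := ((isClosed_univ.inter (hUo i).isClosed_compl).isCompact
        ).elim_directed_family_closed _ (fun s => s.2.1.1) hne
        (fun a b => ⟨⟨a.1 ∩ b.1, a.2.1.inter b.2.1, a.2.2, b.2.2⟩, inter_subset_left,
          inter_subset_right⟩)
      refine ⟨s.1, s.2.1, s.2.2, i, fun y hy => ?_⟩
      by_contra h
      exact eq_empty_iff_forall_notMem.mp hs y ⟨⟨mem_univ _, h⟩, hy⟩
    choose s hs hxs i hi using hloc
    obtain ⟨t, ht⟩ := isCompact_univ.elim_finite_subcover s (fun x => (hs x).2)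
      (fun x _ => mem_iUnion.mpr ⟨x, hxs x⟩)
    let p : Fin t.card → X := fun k => (t.equivFin.symm k : X)
    refine ⟨t.card, disjointed (s ∘ p), fun k => ?_, disjoint_disjointed _, ?_, fun k =>
      ⟨i (p k), (disjointed_subset _ _).trans (hi _)⟩⟩
    · exact disjointedRec (p := IsClopen) (fun u j hu => hu.inter (hs _).compl) (hs _)
    · rw [iUnion_disjointed]
      refine eq_univ_of_forall fun x => ?_
      obtain ⟨y, hy, hxy⟩ := mem_iUnion₂.mp (ht (mem_univ x))
      exact mem_iUnion.mpr ⟨t.equivFin ⟨y, hy⟩, by simpa [p] using hxy⟩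

end Groth.Agent.Lib.WLocal.Components
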