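import Groth.Agent.Lib.WLocal.SHCover
import Groth.Agent.Lib.WeaklyEt.Olivier
import Groth.Agent.Lib.WeaklyEt.Cancel
import Groth.Agent.Lib.WLocal.RetractLoc
import Groth.Agent.S0675

/-!
W-contractible rings: characterisation and existence.
-/

set_option autoImplicit false

universe u

open Topology Set TensorProduct

namespace Groth.Agent.Lib.WLocal.Contract

open IndEtale

/-- A weakly etale algebra identifies local rings over strictly henselian stalks. -/
theorem identAt_of_weaklyEtale (A : Type u) {B : Type u} [CommRing A] [CommRing B] [Algebra A B]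
    [Algebra.WeaklyEtale A B] (q : Ideal B) [q.IsPrime]
    (hsh : EtCoh.IsStrictlyHenselianLocalRing
      (Localization.AtPrime (q.comap (algebraMap A B)))) : Ident.IdentAt A q := by
  obtain ⟨hH, hk⟩ := hsh
  let p := q.comap (algebraMap A B)
  let F := Localization.localRingHom p q (algebraMap A B) rfl
  letI := F.toAlgebra
  haveI : IsScalarTower A (Localization.AtPrime p) (Localization.AtPrime q) :=
    .of_algebraMap_eq fun a => by
      rw [IsScalarTower.algebraMap_apply A B (Localization.AtPrime q)]
      exact (Localization.localRingHom_to_map p q (algebraMap A B) rfl a).symm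
  haveI : Algebra.WeaklyEtale A (Localization.AtPrime p) :=
    RetractLoc.weaklyEtale_of_isLocalization _ p.primeCompl
  haveI : Algebra.WeaklyEtale B (Localization.AtPrime q) :=
    RetractLoc.weaklyEtale_of_isLocalization _ q.primeCompl
  haveI : Algebra.WeaklyEtale A (Localization.AtPrime q) := Algebra.WeaklyEtale.trans A B _
  haveI : Algebra.WeaklyEtale (Localization.AtPrime p) (Localization.AtPrime q) :=
    WeaklyEt.Cancel.weaklyEtale A _ _
  haveI : IsLocalHom (algebraMap (Localization.AtPrime p) (Localization.AtPrime q)) :=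
    Localization.isLocalHom_localRingHom p q (algebraMap A B) rfl
  exact (Ident.bijective_iff q).mp
    (WeaklyEt.Olivier.bijective (A := Localization.AtPrime p) (Localization.AtPrime q))

theorem hasIndEtaleRetractions_of_isWContractible {A : Type u} [CommRing A]
    (h : EtPBC.IsWContractible A) : ProEtW.HasIndEtaleRetractions A :=
  fun B _ _ hff hB => h B hff (Basic.weaklyEtale hB)

theorem hasEtaleRetractions_of_hasIndEtaleRetractions {A : Type u} [CommRing A]
    (h : ProEtW.HasIndEtaleRetractions A) : ProEtW.HasEtaleRetractions A :=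
  fun B _ _ hff hB => h B hff (@Basic.of_etale A B _ _ _ hB)

/-- The three conditions imply w-contractibility. -/
theorem isWContractible_of {A : Type u} [CommRing A] (hw : ProEtW.IsWLocal (PrimeSpectrum A))
    (hed : ExtremallyDisconnected (ConnectedComponents (PrimeSpectrum A)))
    (hsh : ∀ (m : Ideal A) [m.IsMaximal],
      EtCoh.IsStrictlyHenselianLocalRing (Localization.AtPrime m)) : EtPBC.IsWContractible A := by
  intro B _ _ hff hB
  refine Cover.exists_retraction hw hed PrimeSpectrum.comap_surjective_of_faithfullyFlat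
    fun q hq hcl => ?_
  haveI : (q.comap (algebraMap A B)).IsMaximal :=
    (PrimeSpectrum.isClosed_singleton_iff_isMaximal _).mp hcl
  exact identAt_of_weaklyEtale A q (hsh _)

/-- A compact Hausdorff space is covered by an extremally disconnected one. -/
theorem exists_edCover (X : Type u) [TopologicalSpace X] [CompactSpace X] [T2Space X] :
    ∃ (T : Type u) (_ : TopologicalSpace T) (_ : CompactSpace T) (_ : T2Space T)
      (_ : ExtremallyDisconnected T) (_ : TotallyDisconnectedSpace T) (f : T → X),
      Continuous f ∧ Function.Surjective f := by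
  let D := WithTopology X ⊥
  have : DiscreteTopology D := discreteTopology_iff_forall_isOpen.mpr fun s => by
    rw [WithTopology.isOpen_iff]
    exact trivial
  have hed : ExtremallyDisconnected (StoneCech D) :=
    CompactT2.Projective.extremallyDisconnected (StoneCech.projective (X := D))
  let q : D → X := fun d => WithTopology.ofTopology d
  have hq : Continuous q := continuous_of_discreteTopology
  refine ⟨StoneCech D, inferInstance, inferInstance, inferInstance, hed, inferInstance,
    stoneCechExtend hq, continuous_stoneCechExtend hq, fun x => ⟨stoneCechUnit (WithTopology.toTopology _ x), ?_⟩⟩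
  simp [stoneCechExtend_stoneCechUnit, q]

lemma consContinuous_comp {A : Type u} [CommRing A] (hA : ProEtW.IsWLocal (PrimeSpectrum A))
    {T : Type u} [TopologicalSpace T] {f : T → Glue.ClPts A} (hf : Continuous f) :
    AW.ConsContinuous fun t => (f t).1 := fun a => by
  have := (Glue.consContinuous_comap (A := A) hA a).preimage hf
  simpa using this

/-- Retractions for faithfully flat ind-etale algebras imply the three conditions. -/
theorem conditions_of {A : Type u} [CommRing A] (h : ProEtW.HasIndEtaleRetractions A) :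
    ProEtW.IsWLocal (PrimeSpectrum A) ∧
      ExtremallyDisconnected (ConnectedComponents (PrimeSpectrum A)) ∧
      ∀ (m : Ideal A) [m.IsMaximal],
        EtCoh.IsStrictlyHenselianLocalRing (Localization.AtPrime m) := by
  have hA : ProEtW.IsWLocal (PrimeSpectrum A) := by
    have := Cons.totallySeparatedSpace A
    obtain ⟨r⟩ := h (AW.Ring (Cons.h A)) (AW.faithfullyFlat (Cons.bijective_h A).2)
      (Zariski.isIndEtale AW.isIndZariski)
    exact Cover.isWLocal_of_surjective r.toRingHom (fun a => ⟨algebraMap A _ a, r.commutes a⟩)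
      (AW.isWLocal (Cons.consContinuous_h A))
  refine ⟨hA, ?_, fun m _ =>
    Groth.Agent.S0675.result A (hasEtaleRetractions_of_hasIndEtaleRetractions h) m⟩
  obtain ⟨_, _, _⟩ := Glue.profinite_clPts hA
  obtain ⟨T, _, _, _, _, _, e, he, hes⟩ := exists_edCover (Glue.ClPts A)
  have hcons := consContinuous_comp hA he
  obtain ⟨r⟩ := h (AW.Ring fun t => (e t).1) (by
      have : Module.Flat A (AW.Ring fun t => (e t).1) := Zariski.flat (LCSpec.factorsZar_loc _)
      refine Module.FaithfullyFlat.of_comap_surjective fun x => ?_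
      obtain ⟨y, ⟨hy, hxy⟩, -⟩ := hA.2.2 x
      obtain ⟨t, ht⟩ := hes ⟨y, hy⟩
      have hmem : (x, t) ∈ range (LCSpec.toProd (AW.graph fun t => (e t).1)) := by
        rw [AW.range_toProd hcons]
        show x ⤳ (e t).1
        rw [ht]
        exact hxy
      obtain ⟨P, hP⟩ := hmem
      exact ⟨P, by rw [← LCSpec.fst_toProd, hP]⟩)
    (Zariski.isIndEtale AW.isIndZariski)
  let σ : Glue.ClPts A → T := fun y =>
    (LCSpec.toProd (AW.graph fun t => (e t).1) (PrimeSpectrum.comap r.toRingHom y.1)).2
  have hσ : Continuous σ := continuous_snd.comp ((LCSpec.isEmbedding_toProd _).continuous.comp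
    ((PrimeSpectrum.continuous_comap _).comp continuous_subtype_val))
  have hσe : ∀ y, e (σ y) = y := fun y => by
    have h1 := AW.specializes_toProd hcons (PrimeSpectrum.comap r.toRingHom y.1)
    rw [LCSpec.fst_toProd, ← PrimeSpectrum.comap_comp_apply,
      show r.toRingHom.comp (algebraMap A _) = algebraMap A A from r.comp_algebraMap] at h1
    exact Subtype.ext (Basic.eq_of_specializes_of_isClosed y.2 (by simpa [σ] using h1))
  have hed : ExtremallyDisconnected (Glue.ClPts A) :=
    CompactT2.Projective.extremallyDisconnected fun {Y Z} _ _ _ _ _ _ φ g hφ hg hgs => by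
      obtain ⟨k, hk, hgk⟩ := CompactT2.ExtremallyDisconnected.projective (A := T)
        (hφ.comp he) hg hgs
      refine ⟨k ∘ σ, hk.comp hσ, funext fun y => ?_⟩
      have := congrFun hgk (σ y)
      simp only [Function.comp_apply] at this ⊢
      rw [this, hσe]
  have := Components.t2Space_connectedComponents (X := PrimeSpectrum A)
  have : CompactSpace (ConnectedComponents (PrimeSpectrum A)) :=
    Function.Surjective.compactSpace ConnectedComponents.continuous_coe
      ConnectedComponents.surjective_coe
  exact extremallyDisconnected_of_homeo (Continuous.homeoOfEquivCompactToT2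
    (f := Equiv.ofBijective _ (Components.bijective_mk_closedPoints hA.2.1 hA.2.2))
    (ConnectedComponents.continuous_coe.comp continuous_subtype_val))

/-- Every ring has a w-contractible faithfully flat ind-etale extension. -/
theorem exists_wContractible (A : Type u) [CommRing A] :
    ∃ (D : Type u) (_ : CommRing D) (_ : Algebra A D),
      Module.FaithfullyFlat A D ∧ EtPBC.IsIndEtale A D ∧ EtPBC.IsWContractible D := by
  obtain ⟨C, _, _, -, hind, hwl, honto, hsh⟩ := SHCover.exists_cover A
  obtain ⟨_, _, _⟩ := Glue.profinite_clPts hwl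
  obtain ⟨T, _, _, _, hTed, _, e, he, hes⟩ := exists_edCover (Glue.ClPts C)
  have hcons := consContinuous_comp hwl he
  obtain ⟨D, _, _, hZ, hwD, hedD, hclD, hontoD⟩ :
      ∃ (D : Type u) (_ : CommRing D) (_ : Algebra C D), EtPBC.IsIndZariski C D ∧
      ProEtW.IsWLocal (PrimeSpectrum D) ∧
      ExtremallyDisconnected (ConnectedComponents (PrimeSpectrum D)) ∧
      (∀ P : PrimeSpectrum D, IsClosed ({P} : Set _) →
        IsClosed ({PrimeSpectrum.comap (algebraMap C D) P} : Set (PrimeSpectrum C))) ∧
      ∀ y : Glue.ClPts C, ∃ P : PrimeSpectrum D,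
        PrimeSpectrum.comap (algebraMap C D) P = y.1 := by
    obtain ⟨m, -⟩ := AW.exists_pi0_homeomorph hcons
    refine ⟨AW.Ring fun t => (e t).1, inferInstance, inferInstance, AW.isIndZariski,
      AW.isWLocal hcons, extremallyDisconnected_of_homeo m.symm, fun P hP => ?_, fun y => ?_⟩
    · rw [← Basic.eq_of_specializes_of_isClosed hP (AW.specializes_closedPt hcons P),
        AW.comap_closedPt]
      exact (e _).2
    · obtain ⟨t, rfl⟩ := hes y
      exact ⟨AW.closedPt t, AW.comap_closedPt t⟩
  letI : Algebra A D := ((algebraMap C D).comp (algebraMap A C)).toAlgebra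
  haveI : IsScalarTower A C D := .of_algebraMap_eq fun _ => rfl
  have hindD : EtPBC.IsIndEtale A D := Basic.trans hind (Zariski.isIndEtale hZ)
  have hflat : Module.Flat A D := Basic.flat (Basic.factors hindD)
  refine ⟨D, inferInstance, inferInstance,
    Module.FaithfullyFlat.of_comap_surjective fun x => ?_, hindD,
    isWContractible_of hwD hedD fun M hM => ?_⟩
  · obtain ⟨c, hc, rfl⟩ := honto.ge (mem_univ x)
    obtain ⟨P, hP⟩ := hontoD ⟨c, hc⟩
    refine ⟨P, ?_⟩
    rw [IsScalarTower.algebraMap_eq A C D, PrimeSpectrum.comap_comp_apply, hP]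
  · haveI : (M.comap (algebraMap C D)).IsMaximal :=
      (PrimeSpectrum.isClosed_singleton_iff_isMaximal _).mp
        (hclD ⟨M, hM.isPrime⟩ ((PrimeSpectrum.isClosed_singleton_iff_isMaximal _).mpr hM))
    exact SHCover.isStrictlyHenselian_of_ringEquiv (RingEquiv.ofBijective _
      ((Ident.bijective_iff (A := C) M).mpr (Ident.of_factorsZar (Zariski.factors hZ) M))) (hsh _)

/-- Points of a weakly etale algebra over a field in a field are algebraic. -/
lemma isAlgebraic_apply {κ F L : Type u} [Field κ] [CommRing F] [Algebra κ F] [Field L]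
    [Algebra κ L] [Algebra.WeaklyEtale κ F] (ψ : F →ₐ[κ] L) (x : F) : IsAlgebraic κ (ψ x) := by
  haveI : (RingHom.ker ψ).IsPrime := RingHom.ker_isPrime ψ
  haveI : Algebra.WeaklyEtale F (F ⧸ RingHom.ker ψ) :=
    { flat := WeaklyEt.Flat.flat_of_flat_base (A := κ) _
      flat_lmul' := RingHom.Flat.of_bijective
        (LinearMap.mul'_bijective_of_surjective F (F ⧸ RingHom.ker ψ) Ideal.Quotient.mk_surjective) }
  haveI : Algebra.WeaklyEtale κ (F ⧸ RingHom.ker ψ) := Algebra.WeaklyEtale.trans κ F _
  have hfield : IsField (F ⧸ RingHom.ker ψ) := WeaklyEt.Olivier.isField_of_idempotent κ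
    fun e he => by
      have : e * (e - 1) = 0 := by linear_combination he
      rcases mul_eq_zero.mp this with h | h
      · exact Or.inl h
      · exact Or.inr (sub_eq_zero.mp h)
  letI := hfield.toField
  have halg := WeaklyEt.Olivier.isAlgebraic κ (F ⧸ RingHom.ker ψ)
  have h1 := (halg.isAlgebraic (Ideal.Quotient.mk (RingHom.ker ψ) x)).algHom
    (Ideal.kerLiftAlg ψ)
  simpa using h1

theorem algebraicResidueExtensions_of_weaklyEtale (A B : Type u) [CommRing A] [CommRing B]
    [Algebra A B] [Algebra.WeaklyEtale A B] : ProEtW.AlgebraicResidueExtensions A B := by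
  refine AlgRes.iff_forall.mpr fun q _ x => ?_
  let p := q.comap (algebraMap A B)
  let κp := p.ResidueField
  let κq := q.ResidueField
  let θ : κp →+* κq := Ideal.ResidueField.map p q (algebraMap A B) rfl
  letI : Algebra κp κq := θ.toAlgebra
  haveI : IsScalarTower A κp κq := .of_algebraMap_eq fun a => by
    rw [IsScalarTower.algebraMap_apply A B κq]
    exact (Ideal.ResidueField.map_algebraMap p q (algebraMap A B) rfl a).symm
  let ψ : κp ⊗[A] B →ₐ[κp] κq :=
    Algebra.TensorProduct.lift (Algebra.ofId κp κq) (IsScalarTower.toAlgHom A B κq)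
      fun _ _ => Commute.all _ _
  have hx : IsAlgebraic κp (algebraMap B κq x) := by
    have h1 := isAlgebraic_apply ψ (1 ⊗ₜ x)
    simpa [ψ] using h1
  letI : Algebra (A ⧸ p) κq := (θ.comp (algebraMap (A ⧸ p) κp)).toAlgebra
  haveI : IsScalarTower (A ⧸ p) κp κq := .of_algebraMap_eq fun _ => rfl
  obtain ⟨g, hg, hgx⟩ := (IsFractionRing.isAlgebraic_iff (A ⧸ p) κp κq).mpr hx
  obtain ⟨f, rfl⟩ := Polynomial.map_surjective _ (Ideal.Quotient.mk_surjective (I := p)) g
  refine ⟨f, hg, ?_⟩
  rw [← Ideal.algebraMap_residueField_eq_zero (I := q), Polynomial.aeval_def, Polynomial.hom_eval₂]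
  rw [Polynomial.aeval_def, Polynomial.eval₂_map] at hgx
  refine Eq.trans (congrArg (fun r => Polynomial.eval₂ r (algebraMap B κq x) f)
    (RingHom.ext fun a => ?_)) hgx
  change _ = θ (algebraMap (A ⧸ p) κp (algebraMap A (A ⧸ p) a))
  rw [← IsScalarTower.algebraMap_apply A (A ⧸ p) κp]
  exact (Ideal.ResidueField.map_algebraMap p q (algebraMap A B) rfl a).symm

/-- A weakly etale algebra becomes ind-etale after an ind-etale cover. -/
theorem exists_indEtale_cover (A B : Type u) [CommRing A] [CommRing B] [Algebra A B]
    [Algebra.WeaklyEtale A B] :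
    ∃ (B' : Type u) (_ : CommRing B') (_ : Algebra B B') (_ : Algebra A B')
      (_ : IsScalarTower A B B'),
      Module.FaithfullyFlat B B' ∧ EtPBC.IsIndEtale B B' ∧ EtPBC.IsIndEtale A B' := by
  obtain ⟨C, D, _, _, _, _, _, _, _, _, -, hindC, hffD, hindD, -, hwlD, hmap, -, -, -, hsh⟩ :=
    SHCover.main A B (algebraicResidueExtensions_of_weaklyEtale A B)
  haveI : Algebra.WeaklyEtale A C := Basic.weaklyEtale hindC
  haveI : Algebra.WeaklyEtale B D := Basic.weaklyEtale hindD
  haveI : Algebra.WeaklyEtale A D := Algebra.WeaklyEtale.trans A B D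
  haveI : Algebra.WeaklyEtale C D := WeaklyEt.Cancel.weaklyEtale A C D
  have hid : ∀ Q : Glue.ClPts D, Ident.IdentAt C Q.1.asIdeal := fun Q => by
    haveI : (Q.1.asIdeal.comap (algebraMap C D)).IsMaximal :=
      (PrimeSpectrum.isClosed_singleton_iff_isMaximal _).mp (hmap.2 Q.1 Q.2)
    exact identAt_of_weaklyEtale C _ (hsh _)
  exact ⟨D, inferInstance, inferInstance, inferInstance, inferInstance, hffD, hindD,
    Basic.trans hindC (Zariski.isIndEtale (Glue.isIndZariski_of_identAt hwlD hid))⟩

end Groth.Agent.Lib.WLocal.Contract
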