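import Groth.Prelude.Def_ProEtW
import Mathlib.RingTheory.Etale.Weakly
import Mathlib.RingTheory.Etale.Pi
import Mathlib.RingTheory.Etale.StandardEtale
import Mathlib.RingTheory.RingHom.Flat
import Mathlib.RingTheory.Flat.EquationalCriterion
import Mathlib.RingTheory.Flat.FaithfullyFlat.Algebra
import Mathlib.RingTheory.Smooth.Flat
import Mathlib.RingTheory.Smooth.StandardSmooth
import Mathlib.RingTheory.Henselian

/-!
Consequences of the existence of retractions for faithfully flat etale (or weakly etale) algebras.
-/

set_option autoImplicit false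

universe u

open TensorProduct

namespace Groth.Agent.Lib.WLocal.Retract

variable {A : Type u} [CommRing A]

lemma flat_prod {R M N : Type u} [CommRing R] [AddCommGroup M] [Module R M] [AddCommGroup N]
    [Module R N] [Module.Flat R M] [Module.Flat R N] : Module.Flat R (M × N) := by
  refine Module.Flat.of_forall_isTrivialRelation fun {l f x} hfx => ?_
  have h1 : ∑ i, f i • (x i).1 = 0 := by simpa [Prod.fst_sum] using congr_arg Prod.fst hfx
  have h2 : ∑ i, f i • (x i).2 = 0 := by simpa [Prod.snd_sum] using congr_arg Prod.snd hfx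
  obtain ⟨k₁, a, y, ha, hy⟩ := Module.Flat.isTrivialRelation_of_sum_smul_eq_zero h1
  obtain ⟨k₂, b, z, hb, hz⟩ := Module.Flat.isTrivialRelation_of_sum_smul_eq_zero h2
  refine ⟨k₁ + k₂, fun i => Fin.append (a i) (b i),
    Fin.append (fun j => (y j, 0)) (fun j => (0, z j)), fun i => ?_, fun j => ?_⟩
  · ext
    · simp [Fin.sum_univ_add, Prod.fst_sum, ha i]
    · simp [Fin.sum_univ_add, Prod.snd_sum, hb i]
  · refine Fin.addCases (fun j => ?_) (fun j => ?_) j
    · simpa using hy j
    · simpa using hz j

theorem etale_prod (E G : Type u) [CommRing E] [Algebra A E] [CommRing G] [Algebra A G]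
    [Algebra.Etale A E] [Algebra.Etale A G] : Algebra.Etale A (E × G) := by
  let M : Bool → Type u := fun b => bif b then E else G
  letI iR : ∀ b, CommRing (M b) := fun b => match b with
    | true => ‹CommRing E›
    | false => ‹CommRing G›
  letI iA : ∀ b, Algebra A (M b) := fun b => match b with
    | true => ‹Algebra A E›
    | false => ‹Algebra A G›
  haveI iE : ∀ b, Algebra.Etale A (M b) := fun b => match b with
    | true => ‹Algebra.Etale A E›
    | false => ‹Algebra.Etale A G›
  let e : (∀ b, M b) ≃ₐ[A] E × G :=
    { toFun := fun f => (f true, f false)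
      invFun := fun p => Bool.rec p.2 p.1
      left_inv := fun f => by funext b; cases b <;> rfl
      right_inv := fun p => rfl
      map_mul' := fun _ _ => rfl
      map_add' := fun _ _ => rfl
      commutes' := fun _ => rfl }
  haveI : Algebra.Etale A (∀ b, M b) := inferInstance
  exact Algebra.Etale.of_equiv e

theorem weaklyEtale_prod (E G : Type u) [CommRing E] [Algebra A E] [CommRing G] [Algebra A G]
    [Algebra.WeaklyEtale A E] [Algebra.WeaklyEtale A G] : Algebra.WeaklyEtale A (E × G) := by
  have hE := Algebra.WeaklyEtale.flat_lmul' A E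
  have hG := Algebra.WeaklyEtale.flat_lmul' A G
  have hfst : (AlgHom.fst A E G).Flat := by
    algebraize [(AlgHom.fst A E G).toRingHom]
    have : IsLocalization.Away ((1, 0) : E × G) E := by
      apply IsLocalization.away_of_isIdempotentElem
      · simp [IsIdempotentElem]
      · ext x
        simp [RingHom.mem_ker, RingHom.algebraMap_toAlgebra, Ideal.mem_span_singleton]
        constructor
        · intro h
          exact ⟨x, by ext <;> simp [h]⟩
        · rintro ⟨c, rfl⟩
          simp
      · exact Prod.fst_surjective
    exact IsLocalization.flat E (Submonoid.powers ((1, 0) : E × G))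
  have hsnd : (AlgHom.snd A E G).Flat := by
    algebraize [(AlgHom.snd A E G).toRingHom]
    have : IsLocalization.Away ((0, 1) : E × G) G := by
      apply IsLocalization.away_of_isIdempotentElem
      · simp [IsIdempotentElem]
      · ext x
        simp [RingHom.mem_ker, RingHom.algebraMap_toAlgebra, Ideal.mem_span_singleton]
        constructor
        · intro h
          exact ⟨x, by ext <;> simp [h]⟩
        · rintro ⟨c, rfl⟩
          simp
      · exact Prod.snd_surjective
    exact IsLocalization.flat G (Submonoid.powers ((0, 1) : E × G))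
  refine { flat := flat_prod, flat_lmul' := ?_ }
  letI : Algebra ((E × G) ⊗[A] (E × G)) E :=
    ((Algebra.TensorProduct.lmul' A (S := E)).comp
      (Algebra.TensorProduct.map (AlgHom.fst A E G) (AlgHom.fst A E G))).toRingHom.toAlgebra
  letI : Algebra ((E × G) ⊗[A] (E × G)) G :=
    ((Algebra.TensorProduct.lmul' A (S := G)).comp
      (Algebra.TensorProduct.map (AlgHom.snd A E G) (AlgHom.snd A E G))).toRingHom.toAlgebra
  haveI : Module.Flat ((E × G) ⊗[A] (E × G)) E :=
    RingHom.Flat.comp (RingHom.Flat.tensorProductMap hfst hfst) hE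
  haveI : Module.Flat ((E × G) ⊗[A] (E × G)) G :=
    RingHom.Flat.comp (RingHom.Flat.tensorProductMap hsnd hsnd) hG
  have hflat : @Module.Flat ((E × G) ⊗[A] (E × G)) (E × G) _ _ Prod.instModule := flat_prod
  have hEq : (Algebra.TensorProduct.lmul' A (S := E × G)).toRingHom =
      (algebraMap ((E × G) ⊗[A] (E × G)) E).prod (algebraMap ((E × G) ⊗[A] (E × G)) G) := by
    refine RingHom.ext fun t => ?_
    induction t with
    | zero => simp only [map_zero]
    | tmul a b => ext <;> simp [RingHom.algebraMap_toAlgebra]
    | add x y hx hy => rw [map_add, map_add, hx, hy]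
  change (Algebra.TensorProduct.lmul' A (S := E × G)).toRingHom.Flat
  rw [hEq]
  exact hflat

/-- If `E` covers the complement of finitely many `D(f)`, `f ∈ J`, and the auxiliary cover splits,
`E` maps to any `L` with `J L` in the Jacobson radical. -/
theorem exists_hom_of_finset {E L : Type u} [CommRing E] [Algebra A E] [CommRing L] [Algebra A L]
    [Module.Flat A E] (J : Ideal A) (hJ : J.map (algebraMap A L) ≤ Ideal.jacobson ⊥)
    (F : Finset A) (hFJ : ∀ f ∈ F, f ∈ J)
    (hFcov : ∀ x : PrimeSpectrum A, x ∉ Set.range (PrimeSpectrum.comap (algebraMap A E)) →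
      ∃ f ∈ F, f ∉ x.asIdeal)
    (hret : Module.FaithfullyFlat A (E × ((f : F) → Localization.Away (f : A))) →
      Nonempty ((E × ((f : F) → Localization.Away (f : A))) →ₐ[A] A)) :
    Nonempty (E →ₐ[A] L) := by
  classical
  set U := Set.range (PrimeSpectrum.comap (algebraMap A E))
  let Q := (f : F) → Localization.Away (f : A)
  have : ∀ f : F, Algebra.Etale A (Localization.Away (f : A)) := fun f => inferInstance
  have : Algebra.Smooth A Q := inferInstance
  have : Module.Flat A Q := Algebra.Smooth.flat A Q
  have : Module.Flat A (E × Q) := flat_prod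
  have hff : Module.FaithfullyFlat A (E × Q) := by
    refine Module.FaithfullyFlat.of_comap_surjective fun x => ?_
    by_cases hx : x ∈ U
    · obtain ⟨y, rfl⟩ := hx
      exact ⟨PrimeSpectrum.comap (RingHom.fst E Q) y, rfl⟩
    · obtain ⟨f, hfF, hfx⟩ := hFcov x hx
      have hxr : x ∈ Set.range (PrimeSpectrum.comap (algebraMap A (Localization.Away (f : A)))) := by
        rw [PrimeSpectrum.localization_away_comap_range (Localization.Away f) f]
        exact hfx
      obtain ⟨y, rfl⟩ := hxr
      exact ⟨PrimeSpectrum.comap ((Pi.evalRingHom _ (⟨f, hfF⟩ : F)).comp (RingHom.snd E Q)) y, rfl⟩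
  obtain ⟨r⟩ := hret hff
  let φ : E × Q →ₐ[A] L := (Algebra.ofId A L).comp r
  have h10 : φ (0, 1) = 0 := by
    let e : F → L := fun f => φ (0, Pi.single f 1)
    have hsum : φ (0, 1) = ∑ f : F, e f := by
      rw [← map_sum]
      congr 1
      refine Prod.ext ?_ ?_
      · simp [Prod.fst_sum]
      · rw [Prod.snd_sum]
        exact (Finset.univ_sum_single (1 : Q)).symm
    rw [hsum]
    refine Finset.sum_eq_zero fun f _ => ?_
    have hidem : e f * e f = e f := by
      rw [← map_mul, Prod.mk_mul_mk, ← Pi.single_mul, mul_zero, mul_one]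
    have hjac : e f ∈ Ideal.jacobson (⊥ : Ideal L) := by
      obtain ⟨g, hg, hgJ⟩ : ∃ g : A, g = f ∧ g ∈ J := ⟨f, rfl, hFJ _ f.2⟩
      have hu : (0, Pi.single f 1) = algebraMap A (E × Q) g *
          (0, Pi.single f (IsLocalization.Away.invSelf (f : A))) := by
        refine Prod.ext (by simp) ?_
        simp only [Prod.snd_mul]
        rw [show (algebraMap A (E × Q) g).2 = fun f' : F => algebraMap A (Localization.Away (f' : A)) g
          from rfl]
        funext f'
        rcases eq_or_ne f' f with rfl | hne
        · simp only [Pi.mul_apply, Pi.single_eq_same]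
          rw [show g = (f' : A) from hg]
          exact (IsLocalization.Away.mul_invSelf _).symm
        · simp [Pi.single_eq_of_ne hne]
      have : e f = algebraMap A L g *
          φ (0, Pi.single f (IsLocalization.Away.invSelf (f : A))) := by
        simp only [e, hu, map_mul, AlgHom.commutes]
      rw [this]
      exact Ideal.mul_mem_right _ _ (hJ (Ideal.mem_map_of_mem _ hgJ))
    obtain ⟨u, hu⟩ := Ideal.mem_jacobson_bot.mp hjac (-1) |>.exists_left_inv
    linear_combination (-(e f)) * hu - u * hidem
  refine ⟨{ toFun := fun x => φ (x, 0)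
            map_one' := ?_
            map_mul' := fun x y => by rw [← map_mul, Prod.mk_mul_mk, mul_zero]
            map_zero' := map_zero φ
            map_add' := fun x y => by rw [← map_add, Prod.mk_add_mk, add_zero]
            commutes' := fun a => ?_ }⟩
  · have h : φ (1, 0) + φ (0, 1) = 1 := by
      rw [← map_add, Prod.mk_add_mk, add_zero, zero_add]
      exact map_one φ
    simpa [h10] using h
  · have h : φ (algebraMap A E a, 0) = φ (algebraMap A (E × Q) a) * φ (1, 0) := by
      rw [← map_mul]
      congr 1
      ext <;> simp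
    have h1 : φ (1, 0) = 1 := by
      have h : φ (1, 0) + φ (0, 1) = 1 := by
        rw [← map_add, Prod.mk_add_mk, add_zero, zero_add]
        exact map_one φ
      simpa [h10] using h
    rw [h, h1, mul_one, AlgHom.commutes]

/-- If `E` covers `V(J)` and has open image, and the auxiliary covers split, `E` maps to any `L`
with `J L` in the Jacobson radical. -/
theorem exists_hom {E L : Type u} [CommRing E] [Algebra A E] [CommRing L] [Algebra A L]
    [Module.Flat A E] (J : Ideal A) (hJ : J.map (algebraMap A L) ≤ Ideal.jacobson ⊥)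
    (hopen : IsOpen (Set.range (PrimeSpectrum.comap (algebraMap A E))))
    (hcov : PrimeSpectrum.zeroLocus (J : Set A) ⊆ Set.range (PrimeSpectrum.comap (algebraMap A E)))
    (hret : ∀ F : Finset A, Module.FaithfullyFlat A (E × ((f : F) → Localization.Away (f : A))) →
      Nonempty ((E × ((f : F) → Localization.Away (f : A))) →ₐ[A] A)) :
    Nonempty (E →ₐ[A] L) := by
  classical
  obtain ⟨t, ht⟩ := hopen.isClosed_compl.isCompact.elim_finite_subcover
    (fun f : J => (PrimeSpectrum.basicOpen (f : A) : Set (PrimeSpectrum A)))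
    (fun f => (PrimeSpectrum.basicOpen _).2) (fun x hx => by
      have : ¬ (J : Set A) ⊆ x.asIdeal := fun h => hx (hcov h)
      obtain ⟨f, hf, hfx⟩ := Set.not_subset.mp this
      exact Set.mem_iUnion.mpr ⟨⟨f, hf⟩, hfx⟩)
  refine exists_hom_of_finset J hJ (t.image Subtype.val) (fun f hf => ?_) (fun x hx => ?_) (hret _)
  · obtain ⟨g, -, rfl⟩ := Finset.mem_image.mp hf
    exact g.2
  · obtain ⟨f, hf, hfx⟩ := Set.mem_iUnion₂.mp (ht hx)
    exact ⟨f, Finset.mem_image.mpr ⟨f, hf, rfl⟩, hfx⟩

/-- The etale case. -/
theorem exists_hom_etale (hA : ProEtW.HasEtaleRetractions A) {E L : Type u} [CommRing E]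
    [Algebra A E] [Algebra.Etale A E] [CommRing L] [Algebra A L] (J : Ideal A)
    (hJ : J.map (algebraMap A L) ≤ Ideal.jacobson ⊥)
    (hcov : PrimeSpectrum.zeroLocus (J : Set A) ⊆ Set.range (PrimeSpectrum.comap (algebraMap A E))) :
    Nonempty (E →ₐ[A] L) := by
  have : Module.Flat A E := Algebra.Smooth.flat A E
  refine exists_hom J hJ ?_ hcov fun F hF => hA _ hF ?_
  · exact (PrimeSpectrum.isOpenMap_comap_of_hasGoingDown_of_finitePresentation).isOpen_range
  · have : ∀ f : F, Algebra.Etale A (Localization.Away (f : A)) := fun f => inferInstance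
    exact etale_prod _ _

/-- An etale algebra over a quotient lifts, up to what is needed for retractions. -/
theorem exists_lift_etale (I : Ideal A) (B : Type u) [CommRing B] [Algebra (A ⧸ I) B]
    [Algebra.Etale (A ⧸ I) B] :
    ∃ (E : Type u) (_ : CommRing E) (_ : Algebra A E) (φ : E →+* B), Algebra.Etale A E ∧
      φ.comp (algebraMap A E) = (algebraMap (A ⧸ I) B).comp (Ideal.Quotient.mk I) ∧
      ∀ ψ : E →ₐ[A] A ⧸ I, Nonempty (B →ₐ[A ⧸ I] A ⧸ I) := by
  classical
  obtain ⟨ι, σ, _, _, P, hP⟩ := (Algebra.Etale.iff_isStandardSmoothOfRelativeDimension_zero.mp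
    ‹Algebra.Etale (A ⧸ I) B›).out
  letI : Algebra A B := ((algebraMap (A ⧸ I) B).comp (Ideal.Quotient.mk I)).toAlgebra
  haveI : IsScalarTower A (A ⧸ I) B := .of_algebraMap_eq fun _ => rfl
  have : P.toPreSubmersivePresentation.HasCoeffs A :=
    ⟨fun x _ => Ideal.Quotient.mk_surjective x⟩
  let Q := P.toPreSubmersivePresentation.ofHasCoeffs A
  let M := P.toPresentation.ModelOfHasCoeffs A
  let j : M := Q.jacobian
  let R := (Algebra.PreSubmersivePresentation.localizationAway (Localization.Away j) j).comp Q
  have hR : IsUnit R.jacobian := by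
    rw [Algebra.PreSubmersivePresentation.comp_jacobian_eq_jacobian_smul_jacobian,
      Algebra.PreSubmersivePresentation.localizationAway_jacobian, Algebra.smul_def]
    exact (IsLocalization.Away.algebraMap_isUnit j).mul (IsLocalization.Away.algebraMap_isUnit j)
  let R' : Algebra.SubmersivePresentation A (Localization.Away j) (Unit ⊕ ι) (Unit ⊕ σ) :=
    { toPreSubmersivePresentation := R, jacobian_isUnit := hR }
  have hEt : Algebra.Etale A (Localization.Away j) := by
    rw [Algebra.Etale.iff_isStandardSmoothOfRelativeDimension_zero]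
    refine R'.isStandardSmoothOfRelativeDimension ?_
    simp only [Algebra.Presentation.dimension, Nat.card_sum, Nat.card_unique] at hP ⊢
    omega
  let e := P.toPresentation.tensorModelOfHasCoeffsEquiv A
  let φ₀ : M →ₐ[A] B := (e.toAlgHom.restrictScalars A).comp Algebra.TensorProduct.includeRight
  have hφ₀ : ∀ q, φ₀ (Ideal.Quotient.mk _ q) = MvPolynomial.aeval P.val q := fun q => by
    change e (1 ⊗ₜ _) = _
    simp [e]
  have hj : IsUnit (φ₀ j) := by
    have : φ₀ j = P.jacobian := by
      cases nonempty_fintype σ
      simp only [j, Algebra.PreSubmersivePresentation.jacobian_eq_jacobiMatrix_det]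
      rw [Algebra.Generators.algebraMap_apply, Algebra.Generators.algebraMap_apply,
        AlgHom.map_det, AlgHom.map_det, AlgHom.map_det (MvPolynomial.aeval P.val)]
      congr 1
      ext a b
      simp only [AlgHom.mapMatrix_apply, Matrix.map_apply]
      rw [Algebra.PreSubmersivePresentation.jacobiMatrix_apply,
        Algebra.PreSubmersivePresentation.jacobiMatrix_apply]
      rw [show Q.relation b = P.toPresentation.relationOfHasCoeffs A b from rfl,
        show Q.map a = P.map a from rfl, ← P.toPresentation.map_relationOfHasCoeffs A b,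
        MvPolynomial.pderiv_map, MvPolynomial.aeval_map_algebraMap,
        ← AlgHom.comp_apply]
      congr 1
      refine MvPolynomial.algHom_ext fun i => ?_
      rw [AlgHom.comp_apply, MvPolynomial.aeval_X, MvPolynomial.aeval_X]
      exact (hφ₀ (MvPolynomial.X i)).trans (MvPolynomial.aeval_X _ _)
    rw [this]
    exact P.jacobian_isUnit
  let φ : Localization.Away j →+* B := IsLocalization.Away.lift j (g := φ₀.toRingHom) hj
  refine ⟨Localization.Away j, inferInstance, inferInstance, φ, hEt, ?_, fun ψ => ?_⟩
  · refine RingHom.ext fun a => ?_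
    simp only [RingHom.comp_apply, φ, IsScalarTower.algebraMap_apply A M (Localization.Away j),
      IsLocalization.Away.lift_eq]
    exact φ₀.commutes a
  · exact ⟨(Algebra.TensorProduct.lift (AlgHom.id (A ⧸ I) (A ⧸ I))
      (ψ.comp (IsScalarTower.toAlgHom A M (Localization.Away j))) fun _ _ => Commute.all _ _).comp
        e.symm.toAlgHom⟩

/-- The weakly etale case: no openness is needed when `J` is generated by a finite set. -/
theorem exists_hom_weaklyEtale (hA : EtPBC.IsWContractible A) {E L : Type u} [CommRing E]
    [Algebra A E] [Algebra.WeaklyEtale A E] [CommRing L] [Algebra A L] (F : Finset A)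
    (hJ : ∀ f ∈ F, algebraMap A L f ∈ Ideal.jacobson ⊥)
    (hcov : PrimeSpectrum.zeroLocus (F : Set A) ⊆ Set.range (PrimeSpectrum.comap (algebraMap A E))) :
    Nonempty (E →ₐ[A] L) := by
  refine exists_hom_of_finset (Ideal.span (F : Set A)) ?_ F (fun f hf => Ideal.subset_span hf)
    (fun x hx => ?_) fun hF => hA _ hF ?_
  · rw [Ideal.map_span, Ideal.span_le]
    rintro _ ⟨f, hf, rfl⟩
    exact hJ f hf
  · by_contra! h
    exact hx (hcov fun f hf => h f hf)
  · have : ∀ f : F, Algebra.Etale A (Localization.Away (f : A)) := fun f => inferInstance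
    exact weaklyEtale_prod _ _

end Groth.Agent.Lib.WLocal.Retract
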