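import Groth.Agent.Lib.WLocal.Basic
import Mathlib.RingTheory.QuasiFinite.Basic
import Mathlib.RingTheory.Kaehler.Basic
import Mathlib.RingTheory.Spectrum.Prime.Chevalley
import Mathlib.FieldTheory.PurelyInseparable.Basic
import Mathlib.FieldTheory.IsAlgClosed.AlgebraicClosure
import Mathlib.Topology.ExtremallyDisconnected
import Mathlib.Topology.Separation.Profinite

/-!
Quasi-finite algebras over rings with Hausdorff spectrum and separably closed residue fields.
-/

set_option autoImplicit false

universe u

open Topology Set TensorProduct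

namespace Groth.Agent.Lib.WLocal.QuasiFin

theorem isClopen_of_isConstructible {X : Type*} [TopologicalSpace X] [CompactSpace X] [T2Space X]
    {s : Set X} (hs : IsConstructible s) : IsClopen s := by
  induction hs using IsConstructible.empty_union_induction with
  | open_retrocompact U hUo hUc => exact ⟨hUc.isCompact.isClosed, hUo⟩
  | union s hs t ht h1 h2 => exact h1.union h2
  | compl s hs h => exact h.compl

/-- A compact space locally embedded in an extremally disconnected space by a map sending clopens
to open sets is extremally disconnected. -/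
theorem extremallyDisconnected_of_injOn {X Y : Type*} [TopologicalSpace X] [TopologicalSpace Y]
    [CompactSpace X] [T2Space X] [TotallyDisconnectedSpace X] [T2Space Y] [ExtremallyDisconnected Y]
    {f : X → Y} (hf : Continuous f) (himg : ∀ W : Set X, IsClopen W → IsOpen (f '' W))
    (hloc : ∀ x, ∃ W : Set X, IsClopen W ∧ x ∈ W ∧ InjOn f W) : ExtremallyDisconnected X := by
  refine ⟨fun U hU => isOpen_iff_forall_mem_open.mpr fun x hx => ?_⟩
  obtain ⟨W, hW, hxW, hinj⟩ := hloc x
  have ho : IsOpen (f '' (W ∩ U)) := by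
    refine isOpen_iff_forall_mem_open.mpr ?_
    rintro _ ⟨z, hz, rfl⟩
    obtain ⟨C, hC, hzC, hCU⟩ := compact_exists_isClopen_in_isOpen (hW.isOpen.inter hU) hz
    exact ⟨f '' C, image_mono hCU, himg C hC, z, hzC, rfl⟩
  have hVW : closure (W ∩ U) ⊆ W := closure_minimal inter_subset_left hW.isClosed
  have hV : closure (W ∩ U) = W ∩ f ⁻¹' closure (f '' (W ∩ U)) := by
    refine Subset.antisymm (subset_inter hVW ?_) ?_
    · exact fun z hz => image_closure_subset_closure_image hf ⟨z, hz, rfl⟩
    · rintro z ⟨hzW, hz⟩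
      have hsub : closure (f '' (W ∩ U)) ⊆ f '' closure (W ∩ U) :=
        closure_minimal (image_mono subset_closure)
          (isClosed_closure.isCompact.image hf).isClosed
      obtain ⟨z', hz', he⟩ := hsub hz
      exact hinj (hVW hz') hzW he ▸ hz'
  exact ⟨closure (W ∩ U), closure_mono inter_subset_right,
    hV ▸ hW.isOpen.inter ((ExtremallyDisconnected.open_closure _ ho).preimage hf),
    hW.isOpen.inter_closure ⟨hxW, hx⟩⟩

section

variable (A : Type u) {B : Type u} [CommRing A] [CommRing B] [Algebra A B]

theorem t1Space [Algebra.QuasiFinite A B] [T1Space (PrimeSpectrum A)] :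
    T1Space (PrimeSpectrum B) :=
  ⟨fun x => Basic.isClosed_singleton_iff_forall_specializes.mpr fun y hy => by
    have h := (hy.map (PrimeSpectrum.continuous_comap (algebraMap A B))).eq
    exact PrimeSpectrum.ext (Algebra.QuasiFinite.eq_of_le_of_under_eq (R := A) _ _
      ((PrimeSpectrum.le_iff_specializes x y).mpr hy) (congrArg PrimeSpectrum.asIdeal h)).symm⟩

theorem totallySeparatedSpace [Algebra.QuasiFinite A B] [T1Space (PrimeSpectrum A)] :
    TotallySeparatedSpace (PrimeSpectrum B) :=
  have := t1Space A (B := B)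
  Components.totallySeparatedSpace_of_t1

theorem isClopen_image [Algebra.QuasiFinite A B] [Algebra.FinitePresentation A B]
    [T2Space (PrimeSpectrum A)] {W : Set (PrimeSpectrum B)} (hW : IsClopen W) :
    IsClopen (PrimeSpectrum.comap (algebraMap A B) '' W) :=
  isClopen_of_isConstructible (PrimeSpectrum.isConstructible_comap_image
    (RingHom.finitePresentation_algebraMap.mpr inferInstance)
    (hW.isClosed.isCompact.isConstructible hW.isOpen))

/-- A point of `Spec (B ⊗ B)` with both projections equal lies on the diagonal. -/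
theorem mem_diag [Algebra.QuasiFinite A B] (hres : ∀ p : PrimeSpectrum A, IsSepClosed p.asIdeal.ResidueField)
    (q : PrimeSpectrum (B ⊗[A] B))
    (h : PrimeSpectrum.comap
        (Algebra.TensorProduct.includeLeft (R := A) (S := A) (A := B) (B := B)).toRingHom q =
      PrimeSpectrum.comap
        (Algebra.TensorProduct.includeRight (R := A) (A := B) (B := B)).toRingHom q) :
    q ∈ PrimeSpectrum.zeroLocus (KaehlerDifferential.ideal A B : Set (B ⊗[A] B)) := by
  let inl : B →ₐ[A] B ⊗[A] B := Algebra.TensorProduct.includeLeft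
  let inr : B →ₐ[A] B ⊗[A] B := Algebra.TensorProduct.includeRight
  let x := PrimeSpectrum.comap inl.toRingHom q
  let p := x.asIdeal.comap (algebraMap A B)
  haveI := hres ⟨p, inferInstance⟩
  let κp := p.ResidueField
  let κx := x.asIdeal.ResidueField
  let θ : κp →+* κx := Ideal.ResidueField.map p x.asIdeal (algebraMap A B) rfl
  letI : Algebra κp κx := θ.toAlgebra
  haveI : IsScalarTower A κp κx := .of_algebraMap_eq fun a => by
    rw [IsScalarTower.algebraMap_apply A B κx]
    exact (Ideal.ResidueField.map_algebraMap p x.asIdeal (algebraMap A B) rfl a).symm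
  haveI : Algebra.QuasiFinite κp κx := Algebra.QuasiFinite.of_restrictScalars A κp κx
  haveI : Module.Finite κp κx := Module.Finite.of_quasiFinite
  let φ₁ : κx →+* q.asIdeal.ResidueField :=
    Ideal.ResidueField.map x.asIdeal q.asIdeal inl.toRingHom rfl
  let φ₂ : κx →+* q.asIdeal.ResidueField :=
    Ideal.ResidueField.map x.asIdeal q.asIdeal inr.toRingHom (congrArg PrimeSpectrum.asIdeal h)
  have hφ : φ₁ = φ₂ := by
    refine IsPurelyInseparable.injective_comp_algebraMap κp κx q.asIdeal.ResidueField ?_
    refine Ideal.ResidueField.ringHom_ext (RingHom.ext fun a => ?_)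
    simp only [RingHom.comp_apply]
    rw [← IsScalarTower.algebraMap_apply A κp κx, IsScalarTower.algebraMap_apply A B κx,
      Ideal.ResidueField.map_algebraMap, Ideal.ResidueField.map_algebraMap]
    exact congrArg _ ((inl.commutes a).trans (inr.commutes a).symm)
  rw [PrimeSpectrum.mem_zeroLocus, SetLike.coe_subset_coe, ← KaehlerDifferential.span_range_eq_ideal,
    Ideal.span_le]
  rintro _ ⟨b, rfl⟩
  rw [SetLike.mem_coe, ← Ideal.algebraMap_residueField_eq_zero, map_sub, sub_eq_zero]
  have h1 := RingHom.congr_fun hφ (algebraMap B κx b)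
  rw [Ideal.ResidueField.map_algebraMap, Ideal.ResidueField.map_algebraMap] at h1
  exact h1.symm

/-- Two points over the same point are the projections of a point of `Spec (B ⊗ B)`. -/
theorem exists_prod [Algebra.QuasiFinite A B] {y z : PrimeSpectrum B}
    (h : PrimeSpectrum.comap (algebraMap A B) y = PrimeSpectrum.comap (algebraMap A B) z) :
    ∃ q : PrimeSpectrum (B ⊗[A] B),
      PrimeSpectrum.comap
        (Algebra.TensorProduct.includeLeft (R := A) (S := A) (A := B) (B := B)).toRingHom q = y ∧
      PrimeSpectrum.comap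
        (Algebra.TensorProduct.includeRight (R := A) (A := B) (B := B)).toRingHom q = z := by
  let p := y.asIdeal.comap (algebraMap A B)
  let κp := p.ResidueField
  let θy : κp →+* y.asIdeal.ResidueField :=
    Ideal.ResidueField.map p y.asIdeal (algebraMap A B) rfl
  let θz : κp →+* z.asIdeal.ResidueField :=
    Ideal.ResidueField.map p z.asIdeal (algebraMap A B) (congrArg PrimeSpectrum.asIdeal h)
  letI := θy.toAlgebra
  letI := θz.toAlgebra
  haveI : IsScalarTower A κp y.asIdeal.ResidueField := .of_algebraMap_eq fun a => by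
    rw [IsScalarTower.algebraMap_apply A B y.asIdeal.ResidueField]
    exact (Ideal.ResidueField.map_algebraMap p y.asIdeal (algebraMap A B) rfl a).symm
  haveI : IsScalarTower A κp z.asIdeal.ResidueField := .of_algebraMap_eq fun a => by
    rw [IsScalarTower.algebraMap_apply A B z.asIdeal.ResidueField]
    exact (Ideal.ResidueField.map_algebraMap p z.asIdeal (algebraMap A B) _ a).symm
  haveI : Algebra.QuasiFinite κp y.asIdeal.ResidueField :=
    Algebra.QuasiFinite.of_restrictScalars A κp _
  haveI : Algebra.QuasiFinite κp z.asIdeal.ResidueField :=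
    Algebra.QuasiFinite.of_restrictScalars A κp _
  haveI : Module.Finite κp y.asIdeal.ResidueField := Module.Finite.of_quasiFinite
  haveI : Module.Finite κp z.asIdeal.ResidueField := Module.Finite.of_quasiFinite
  let e₁ : y.asIdeal.ResidueField →ₐ[κp] AlgebraicClosure κp := IsAlgClosed.lift
  let e₂ : z.asIdeal.ResidueField →ₐ[κp] AlgebraicClosure κp := IsAlgClosed.lift
  let f₁ : B →ₐ[A] AlgebraicClosure κp :=
    (e₁.restrictScalars A).comp (IsScalarTower.toAlgHom A B y.asIdeal.ResidueField)
  let f₂ : B →ₐ[A] AlgebraicClosure κp :=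
    (e₂.restrictScalars A).comp (IsScalarTower.toAlgHom A B z.asIdeal.ResidueField)
  let g : B ⊗[A] B →ₐ[A] AlgebraicClosure κp :=
    Algebra.TensorProduct.lift f₁ f₂ fun _ _ => Commute.all _ _
  refine ⟨⟨RingHom.ker g, RingHom.ker_isPrime g⟩, PrimeSpectrum.ext (Ideal.ext fun b => ?_),
    PrimeSpectrum.ext (Ideal.ext fun b => ?_)⟩
  · simp [g, f₁]
  · simp [g, f₂]

/-- A quasi-finite map is locally injective for clopen neighbourhoods. -/
theorem exists_injOn [Algebra.QuasiFinite A B] [Algebra.FiniteType A B] [T1Space (PrimeSpectrum A)]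
    (hres : ∀ p : PrimeSpectrum A, IsSepClosed p.asIdeal.ResidueField) (x : PrimeSpectrum B) :
    ∃ W : Set (PrimeSpectrum B), IsClopen W ∧ x ∈ W ∧
      InjOn (PrimeSpectrum.comap (algebraMap A B)) W := by
  haveI : Algebra.QuasiFinite A (B ⊗[A] B) := Algebra.QuasiFinite.trans A B _
  haveI := totallySeparatedSpace A (B := B)
  haveI := totallySeparatedSpace A (B := B ⊗[A] B)
  let Δ := PrimeSpectrum.zeroLocus (KaehlerDifferential.ideal A B : Set (B ⊗[A] B))
  have hΔ : IsOpen Δ := isClosed_compl_iff.mp
    (PrimeSpectrum.isRetrocompact_zeroLocus_compl_of_fg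
      (KaehlerDifferential.ideal_fg A B)).isCompact.isClosed
  let π₁ := PrimeSpectrum.comap
    (Algebra.TensorProduct.includeLeft (R := A) (S := A) (A := B) (B := B)).toRingHom
  let π₂ := PrimeSpectrum.comap
    (Algebra.TensorProduct.includeRight (R := A) (A := B) (B := B)).toRingHom
  let ι := {W : Set (PrimeSpectrum B) // IsClopen W ∧ x ∈ W}
  haveI : Nonempty ι := ⟨⟨univ, isClopen_univ, trivial⟩⟩
  obtain ⟨⟨W, hW, hxW⟩, he⟩ := hΔ.isClosed_compl.isCompact.elim_directed_family_closed
    (fun W : ι => π₁ ⁻¹' W.1 ∩ π₂ ⁻¹' W.1)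
    (fun W => (W.2.1.isClosed.preimage (PrimeSpectrum.continuous_comap _)).inter
      (W.2.1.isClosed.preimage (PrimeSpectrum.continuous_comap _)))
    (by
      rw [eq_empty_iff_forall_notMem]
      rintro q ⟨hq, hqW⟩
      refine hq (mem_diag A hres q ?_)
      have key : ∀ y, (∀ W : ι, y ∈ W.1) → y = x := fun y hy => by
        by_contra hne
        obtain ⟨U, hU, hxU, hyU⟩ := exists_isClopen_of_totally_separated (Ne.symm hne)
        exact hyU (hy ⟨U, hU, hxU⟩)
      rw [mem_iInter] at hqW
      exact (key (π₁ q) fun W => (hqW W).1).trans (key (π₂ q) fun W => (hqW W).2).symm)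
    (fun W W' => ⟨⟨W.1 ∩ W'.1, W.2.1.inter W'.2.1, W.2.2, W'.2.2⟩,
      fun q hq => ⟨hq.1.1, hq.2.1⟩, fun q hq => ⟨hq.1.2, hq.2.2⟩⟩)
  refine ⟨W, hW, hxW, fun y hy z hz hyz => ?_⟩
  obtain ⟨q, hq₁, hq₂⟩ := exists_prod A hyz
  have hq : q ∈ Δ := by
    by_contra hq
    exact eq_empty_iff_forall_notMem.mp he q
      ⟨hq, show π₁ q ∈ W from (congrArg (· ∈ W) hq₁).mpr hy, show π₂ q ∈ W from (congrArg (· ∈ W) hq₂).mpr hz⟩
  refine PrimeSpectrum.ext (Ideal.ext fun b => ?_)
  rw [← hq₁, ← hq₂]
  have hb := hq (KaehlerDifferential.one_smul_sub_smul_one_mem_ideal A b)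
  simp only [PrimeSpectrum.comap_asIdeal, Ideal.mem_comap]
  exact ⟨fun h => by simpa using Ideal.add_mem _ hb h, fun h => by simpa using Ideal.sub_mem _ h hb⟩

/-- The spectrum of a quasi-finite algebra of finite presentation over a ring with separably
closed residue fields and extremally disconnected spectrum is extremally disconnected. -/
theorem extremallyDisconnected [Algebra.QuasiFinite A B] [Algebra.FinitePresentation A B]
    (hres : ∀ p : PrimeSpectrum A, IsSepClosed p.asIdeal.ResidueField) [T2Space (PrimeSpectrum A)]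
    [ExtremallyDisconnected (PrimeSpectrum A)] : ExtremallyDisconnected (PrimeSpectrum B) := by
  haveI := totallySeparatedSpace A (B := B)
  exact extremallyDisconnected_of_injOn (PrimeSpectrum.continuous_comap (algebraMap A B))
    (fun W hW => (isClopen_image A hW).isOpen) (exists_injOn A hres)

end

end Groth.Agent.Lib.WLocal.QuasiFin
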