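import Groth.Agent.Lib.WLocal.Contract
import Groth.Agent.Lib.WLocal.QuasiFin
import Groth.Agent.Lib.Henselian.Finite
import Groth.Agent.Lib.Henselian.LocalRing
import Groth.Agent.Lib.Henselian.EtaleHom
import Mathlib.RingTheory.Localization.Finiteness
import Mathlib.RingTheory.Localization.LocalizationLocalization

/-!
Finite algebras of finite presentation over w-contractible rings.
-/

set_option autoImplicit false

universe u

open Topology Set TensorProduct

namespace Groth.Agent.Lib.WLocal.Finite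

variable {A : Type u} {B : Type u} [CommRing A] [CommRing B] [Algebra A B] [Module.Finite A B]

lemma exists_loc (M : Ideal A) [M.IsMaximal] (n : Ideal B) [n.IsMaximal]
    (hn : n.comap (algebraMap A B) = M) :
    ∃ n' : Ideal (Localization (Algebra.algebraMapSubmonoid B M.primeCompl)),
      n'.IsMaximal ∧ n'.comap (algebraMap B _) = n := by
  have hd : Disjoint (Algebra.algebraMapSubmonoid B M.primeCompl : Set B) (n : Set B) := by
    rw [Set.disjoint_left]
    rintro _ ⟨a, ha, rfl⟩ h
    exact ha (hn ▸ h)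
  let Bm := Localization (Algebra.algebraMapSubmonoid B M.primeCompl)
  let n' : Ideal Bm := n.map (algebraMap B Bm)
  have hp : n'.IsPrime := IsLocalization.isPrime_of_isPrime_disjoint
    (Algebra.algebraMapSubmonoid B M.primeCompl) Bm n inferInstance hd
  have hc : n'.comap (algebraMap B Bm) = n := IsLocalization.comap_map_of_isPrime_disjoint
    (Algebra.algebraMapSubmonoid B M.primeCompl) Bm inferInstance hd
  refine ⟨n', ⟨⟨hp.ne_top, fun J hJ => ?_⟩⟩, hc⟩
  by_contra hJtop
  have h1 : n = J.comap (algebraMap B Bm) :=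
    Ideal.IsMaximal.eq_of_le inferInstance (Ideal.comap_ne_top _ hJtop)
      (hc ▸ Ideal.comap_mono hJ.le)
  refine hJ.ne ?_
  change n.map (algebraMap B Bm) = J
  rw [h1]
  exact IsLocalization.map_comap (Algebra.algebraMapSubmonoid B M.primeCompl) Bm J

/-- A prime of a finite algebra over a ring with henselian local ring at `M` lies below at most
one maximal ideal over `M`. -/
theorem eq_of_le (M : Ideal A) [M.IsMaximal] (hH : HenselianLocalRing (Localization.AtPrime M))
    (x m₁ m₂ : Ideal B) [x.IsPrime] [m₁.IsMaximal] [m₂.IsMaximal] (h₁ : x ≤ m₁) (h₂ : x ≤ m₂)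
    (hm₁ : m₁.comap (algebraMap A B) = M) (hm₂ : m₂.comap (algebraMap A B) = M) : m₁ = m₂ := by
  classical
  let Bm := Localization (Algebra.algebraMapSubmonoid B M.primeCompl)
  obtain ⟨n₁, hn₁, hc₁⟩ := exists_loc M m₁ hm₁
  obtain ⟨n₂, hn₂, hc₂⟩ := exists_loc M m₂ hm₂
  by_contra hne
  have hne' : (⟨n₁, hn₁⟩ : MaximalSpectrum Bm) ≠ ⟨n₂, hn₂⟩ := fun h =>
    hne (hc₁ ▸ hc₂ ▸ congrArg (fun n : MaximalSpectrum Bm => n.asIdeal.comap (algebraMap B Bm)) h)
  have hbij := Henselian.Finite.toPiLocalization_bijective (A := Localization.AtPrime M) (B := Bm)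
  obtain ⟨e, he⟩ := hbij.2 (Pi.single (⟨n₁, hn₁⟩ : MaximalSpectrum Bm) 1)
  have hid : IsIdempotentElem e := hbij.1 (by
    rw [map_mul, he]
    funext n
    by_cases hn : n = ⟨n₁, hn₁⟩
    · subst hn
      simp
    · simp [Pi.single_eq_of_ne hn])
  have he₁ : e ∉ n₁ := fun h => by
    have h1 := congrFun he ⟨n₁, hn₁⟩
    rw [MaximalSpectrum.toPiLocalization_apply_apply, Pi.single_eq_same] at h1
    have := (IsLocalization.AtPrime.to_map_mem_maximal_iff (Localization.AtPrime n₁) n₁ e).mpr h
    exact IsLocalRing.maximalIdeal.isMaximal _ |>.ne_top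
      ((Ideal.eq_top_iff_one _).mpr (h1 ▸ this))
  have he₂ : e ∈ n₂ := by
    have h1 := congrFun he ⟨n₂, hn₂⟩
    rw [MaximalSpectrum.toPiLocalization_apply_apply, Pi.single_eq_of_ne hne'.symm] at h1
    refine (IsLocalization.AtPrime.to_map_mem_maximal_iff (Localization.AtPrime n₂) n₂ e).mp ?_
    rw [h1]
    exact zero_mem _
  have hxd : Disjoint (Algebra.algebraMapSubmonoid B M.primeCompl : Set B) (x : Set B) := by
    rw [Set.disjoint_left]
    rintro _ ⟨a, ha, rfl⟩ h
    exact ha (hm₁ ▸ h₁ h)
  let x' : Ideal Bm := x.map (algebraMap B Bm)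
  have hx' : x'.IsPrime := IsLocalization.isPrime_of_isPrime_disjoint
    (Algebra.algebraMapSubmonoid B M.primeCompl) Bm x inferInstance hxd
  have hx₁ : x' ≤ n₁ := Ideal.map_le_iff_le_comap.mpr (hc₁.symm ▸ h₁)
  have hx₂ : x' ≤ n₂ := Ideal.map_le_iff_le_comap.mpr (hc₂.symm ▸ h₂)
  have h0 : e * (1 - e) ∈ x' := by
    rw [mul_sub, mul_one, hid.eq, sub_self]
    exact zero_mem _
  rcases hx'.mem_or_mem h0 with h | h
  · exact he₁ (hx₁ h)
  · exact hn₂.ne_top ((Ideal.eq_top_iff_one _).mpr (by simpa using n₂.add_mem (hx₂ h) he₂))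

theorem isStrictlyHenselian (M : Ideal A) [M.IsMaximal]
    (hA : EtCoh.IsStrictlyHenselianLocalRing (Localization.AtPrime M)) (n : Ideal B) [n.IsMaximal]
    (hn : n.comap (algebraMap A B) = M) :
    EtCoh.IsStrictlyHenselianLocalRing (Localization.AtPrime n) := by
  classical
  obtain ⟨hH, hk⟩ := hA
  let Am := Localization.AtPrime M
  let Bm := Localization (Algebra.algebraMapSubmonoid B M.primeCompl)
  obtain ⟨n', hn', hc⟩ := exists_loc M n hn
  let L := Localization.AtPrime n'
  have hbij := Henselian.Finite.toPiLocalization_bijective (A := Am) (B := Bm)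
  have hsurj : Function.Surjective (algebraMap Bm L) := fun z => by
    obtain ⟨e, he⟩ := hbij.2 (Pi.single (⟨n', hn'⟩ : MaximalSpectrum Bm) z)
    have h1 := congrFun he ⟨n', hn'⟩
    rw [MaximalSpectrum.toPiLocalization_apply_apply, Pi.single_eq_same] at h1
    exact ⟨e, h1⟩
  haveI : Module.Finite Am L :=
    Module.Finite.of_surjective (IsScalarTower.toAlgHom Am Bm L).toLinearMap hsurj
  haveI : HenselianLocalRing L := Henselian.LocalRing.henselianLocalRing_of_isIntegral Am L
  haveI : IsLocalHom (algebraMap Am L) :=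
    ((IsLocalRing.local_hom_TFAE (algebraMap Am L)).out 0 4).mpr
      (IsLocalRing.eq_maximalIdeal
        (Ideal.isMaximal_comap_of_isIntegral_of_isMaximal (IsLocalRing.maximalIdeal L)))
  haveI : Algebra.IsAlgebraic (IsLocalRing.ResidueField Am) (IsLocalRing.ResidueField L) :=
    inferInstance
  have hk' : IsSepClosed (IsLocalRing.ResidueField L) :=
    Algebra.IsAlgebraic.isSepClosed (F := IsLocalRing.ResidueField Am)
  have hL : EtCoh.IsStrictlyHenselianLocalRing L := ⟨inferInstance, hk'⟩
  subst hc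
  exact SHCover.isStrictlyHenselian_of_ringEquiv
    (IsLocalization.localizationLocalizationAtPrimeIsoLocalization
      (M := Algebra.algebraMapSubmonoid B M.primeCompl) n').toRingEquiv.symm hL

theorem isWLocal (hA : ProEtW.IsWLocal (PrimeSpectrum A))
    (hH : ∀ (m : Ideal A) [m.IsMaximal], HenselianLocalRing (Localization.AtPrime m)) :
    ProEtW.IsWLocal (PrimeSpectrum B) := by
  let f := PrimeSpectrum.comap (algebraMap A B)
  have hcl : ∀ y : PrimeSpectrum B,
      IsClosed ({y} : Set (PrimeSpectrum B)) ↔ IsClosed ({f y} : Set (PrimeSpectrum A)) := fun y => by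
    rw [PrimeSpectrum.isClosed_singleton_iff_isMaximal, PrimeSpectrum.isClosed_singleton_iff_isMaximal]
    exact ⟨fun h => Ideal.isMaximal_comap_of_isIntegral_of_isMaximal y.asIdeal,
      fun h => Ideal.isMaximal_of_isIntegral_of_isMaximal_comap y.asIdeal h⟩
  refine ⟨inferInstance, ?_, fun x => ?_⟩
  · convert hA.2.1.preimage (PrimeSpectrum.continuous_comap (algebraMap A B)) using 1
    ext y
    exact hcl y
  obtain ⟨m, hm, hle⟩ := x.asIdeal.exists_le_maximal x.2.ne_top
  refine ⟨⟨m, hm.isPrime⟩, ⟨(PrimeSpectrum.isClosed_singleton_iff_isMaximal _).mpr hm,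
    (PrimeSpectrum.le_iff_specializes _ _).mp hle⟩, fun y hy => ?_⟩
  have hym : y.asIdeal.IsMaximal := (PrimeSpectrum.isClosed_singleton_iff_isMaximal _).mp hy.1
  obtain ⟨z, -, hzu⟩ := hA.2.2 (f x)
  have e1 : f ⟨m, hm.isPrime⟩ = z := hzu _
    ⟨(hcl ⟨m, hm.isPrime⟩).mp ((PrimeSpectrum.isClosed_singleton_iff_isMaximal _).mpr hm),
      ((PrimeSpectrum.le_iff_specializes x ⟨m, hm.isPrime⟩).mp hle).map
        (PrimeSpectrum.continuous_comap _)⟩
  have e2 : f y = z := hzu _ ⟨(hcl y).mp hy.1, hy.2.map (PrimeSpectrum.continuous_comap _)⟩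
  haveI : z.asIdeal.IsMaximal := e2 ▸ Ideal.isMaximal_comap_of_isIntegral_of_isMaximal y.asIdeal
  exact PrimeSpectrum.ext (eq_of_le z.asIdeal (hH _) x.asIdeal y.asIdeal m
    ((PrimeSpectrum.le_iff_specializes x y).mpr hy.2) hle (congrArg PrimeSpectrum.asIdeal e2)
    (congrArg PrimeSpectrum.asIdeal e1))

theorem isWContractible [Algebra.FinitePresentation A B] (h : EtPBC.IsWContractible A) :
    EtPBC.IsWContractible B := by
  obtain ⟨hA, hed, hsh⟩ :=
    Contract.conditions_of (Contract.hasIndEtaleRetractions_of_isWContractible h)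
  have hB : ProEtW.IsWLocal (PrimeSpectrum B) := isWLocal hA fun m _ => (hsh m).1
  refine Contract.isWContractible_of hB ?_ fun n _ => by
    haveI := Ideal.isMaximal_comap_of_isIntegral_of_isMaximal (R := A) n
    exact isStrictlyHenselian _ (hsh _) n rfl
  let Z := {x : PrimeSpectrum A | IsClosed ({x} : Set (PrimeSpectrum A))}
  let J := PrimeSpectrum.vanishingIdeal Z
  let g := PrimeSpectrum.comap (Ideal.Quotient.mk J)
  have hrange : range g = Z := by
    rw [range_comap_of_surjective _ _ Ideal.Quotient.mk_surjective, Ideal.mk_ker,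
      PrimeSpectrum.zeroLocus_vanishingIdeal_eq_closure, hA.2.1.closure_eq]
  have hg : IsClosedEmbedding g :=
    PrimeSpectrum.isClosedEmbedding_comap_of_surjective _ _ Ideal.Quotient.mk_surjective
  obtain ⟨_, _, _⟩ := Glue.profinite_clPts hA
  have := Components.t2Space_connectedComponents (X := PrimeSpectrum A)
  have : CompactSpace (ConnectedComponents (PrimeSpectrum A)) :=
    Function.Surjective.compactSpace ConnectedComponents.continuous_coe
      ConnectedComponents.surjective_coe
  let eA : Glue.ClPts A ≃ₜ ConnectedComponents (PrimeSpectrum A) :=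
    Continuous.homeoOfEquivCompactToT2
      (f := Equiv.ofBijective _ (Components.bijective_mk_closedPoints hA.2.1 hA.2.2))
      (ConnectedComponents.continuous_coe.comp continuous_subtype_val)
  let eg : PrimeSpectrum (A ⧸ J) ≃ₜ Glue.ClPts A :=
    hg.isEmbedding.toHomeomorph.trans (Homeomorph.setCongr hrange)
  haveI : T2Space (PrimeSpectrum (A ⧸ J)) := eg.symm.t2Space
  haveI : ExtremallyDisconnected (PrimeSpectrum (A ⧸ J)) :=
    extremallyDisconnected_of_homeo (eg.trans eA).symm
  have hres : ∀ P : PrimeSpectrum (A ⧸ J), IsSepClosed P.asIdeal.ResidueField := fun P => by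
    haveI : (P.asIdeal.comap (Ideal.Quotient.mk J)).IsMaximal :=
      (PrimeSpectrum.isClosed_singleton_iff_isMaximal _).mp (hrange.le ⟨P, rfl⟩)
    haveI : IsSepClosed (P.asIdeal.comap (Ideal.Quotient.mk J)).ResidueField := (hsh _).2
    let φ := Ideal.ResidueField.map _ P.asIdeal (Ideal.Quotient.mk J) rfl
    letI := φ.toAlgebra
    have hφ : Function.Surjective φ := fun z => by
      obtain ⟨u, v, hv, rfl⟩ := IsFractionRing.div_surjective ((A ⧸ J) ⧸ P.asIdeal) z
      obtain ⟨u, rfl⟩ := Ideal.Quotient.mk_surjective u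
      obtain ⟨v, rfl⟩ := Ideal.Quotient.mk_surjective v
      obtain ⟨u, rfl⟩ := Ideal.Quotient.mk_surjective u
      obtain ⟨v, rfl⟩ := Ideal.Quotient.mk_surjective v
      refine ⟨algebraMap A _ u / algebraMap A _ v, ?_⟩
      rw [map_div₀, Ideal.ResidueField.map_algebraMap, Ideal.ResidueField.map_algebraMap]
      rfl
    haveI : Algebra.IsAlgebraic (P.asIdeal.comap (Ideal.Quotient.mk J)).ResidueField
        P.asIdeal.ResidueField := ⟨fun z => by
      obtain ⟨w, rfl⟩ := hφ z
      exact isAlgebraic_algebraMap w⟩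
    exact Algebra.IsAlgebraic.isSepClosed (F := (P.asIdeal.comap (Ideal.Quotient.mk J)).ResidueField)
  let C := (A ⧸ J) ⊗[A] B
  haveI : ExtremallyDisconnected (PrimeSpectrum C) :=
    QuasiFin.extremallyDisconnected (A ⧸ J) hres
  let inr : B →ₐ[A] C := Algebra.TensorProduct.includeRight
  have hinr : Function.Surjective inr := fun z => by
    induction z using TensorProduct.induction_on with
    | zero => exact ⟨0, map_zero _⟩
    | add p q hp hq =>
      obtain ⟨b, rfl⟩ := hp
      obtain ⟨b', rfl⟩ := hq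
      exact ⟨b + b', map_add _ _ _⟩
    | tmul a b =>
      obtain ⟨a, rfl⟩ := Ideal.Quotient.mk_surjective a
      refine ⟨a • b, ?_⟩
      change (1 : A ⧸ J) ⊗ₜ[A] (a • b) = _
      rw [← TensorProduct.smul_tmul, ← Algebra.algebraMap_eq_smul_one]
      rfl
  have hrangeC : range (PrimeSpectrum.comap inr.toRingHom) =
      {y : PrimeSpectrum B | IsClosed ({y} : Set (PrimeSpectrum B))} := by
    have hcl : ∀ y : PrimeSpectrum B, IsClosed ({y} : Set (PrimeSpectrum B)) ↔
        PrimeSpectrum.comap (algebraMap A B) y ∈ Z := fun y => by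
      change _ ↔ IsClosed _
      rw [PrimeSpectrum.isClosed_singleton_iff_isMaximal, PrimeSpectrum.isClosed_singleton_iff_isMaximal]
      exact ⟨fun h => Ideal.isMaximal_comap_of_isIntegral_of_isMaximal y.asIdeal,
        fun h => Ideal.isMaximal_of_isIntegral_of_isMaximal_comap y.asIdeal h⟩
    ext y
    rw [mem_setOf_eq, hcl, range_comap_of_surjective _ _ hinr,
      PrimeSpectrum.mem_zeroLocus, SetLike.coe_subset_coe]
    have hZ : PrimeSpectrum.comap (algebraMap A B) y ∈ Z ↔ J.map (algebraMap A B) ≤ y.asIdeal := by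
      rw [Ideal.map_le_iff_le_comap, show Z = PrimeSpectrum.zeroLocus (J : Set A) from
        ((PrimeSpectrum.zeroLocus_vanishingIdeal_eq_closure Z).trans hA.2.1.closure_eq).symm,
        PrimeSpectrum.mem_zeroLocus, SetLike.coe_subset_coe]
      rfl
    rw [hZ]
    have hker : RingHom.ker inr.toRingHom = J.map (algebraMap A B) := by
      have h1 := Henselian.EtaleHom.ker_includeRight (A := A) (K := A ⧸ J) (B := B)
        Ideal.Quotient.mk_surjective
      rw [Ideal.Quotient.algebraMap_eq, Ideal.mk_ker] at h1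
      exact h1
    rw [← hker]
  have hCe := PrimeSpectrum.isClosedEmbedding_comap_of_surjective _ inr.toRingHom hinr
  let eC : PrimeSpectrum C ≃ₜ Glue.ClPts B :=
    hCe.isEmbedding.toHomeomorph.trans (Homeomorph.setCongr hrangeC)
  obtain ⟨_, _, _⟩ := Glue.profinite_clPts hB
  have := Components.t2Space_connectedComponents (X := PrimeSpectrum B)
  let eB : Glue.ClPts B ≃ₜ ConnectedComponents (PrimeSpectrum B) :=
    Continuous.homeoOfEquivCompactToT2
      (f := Equiv.ofBijective _ (Components.bijective_mk_closedPoints hB.2.1 hB.2.2))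
      (ConnectedComponents.continuous_coe.comp continuous_subtype_val)
  exact extremallyDisconnected_of_homeo (eC.trans eB)

end Groth.Agent.Lib.WLocal.Finite
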