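import Groth.Agent.Lib.WLocal.AW
import Mathlib.Topology.Spectral.ConstructibleTopology
import Mathlib.Topology.Compactification.StoneCech
import Mathlib.Topology.ExtremallyDisconnected

/-!
Profinite spaces over `Spec A`: the constructible topology and a projective cover of it.
-/

set_option autoImplicit false

universe u

namespace Groth.Agent.Lib.WLocal.Cons

open Set TopologicalSpace Topology
open Groth.Agent.Lib.Spectral

variable (A : Type u) [CommRing A]

/-- `Spec A` with the constructible topology. -/
abbrev T : Type u := WithConstructibleTopology (PrimeSpectrum A)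

/-- The identity `T A → Spec A`. -/
abbrev h (t : T A) : PrimeSpectrum A := WithTopology.ofTopology t

lemma consContinuous_h : AW.ConsContinuous (h A) := fun a => by
  have hc : @IsClopen (PrimeSpectrum A) (constructibleTopology _)
      (PrimeSpectrum.basicOpen a : Set (PrimeSpectrum A))ᶜ :=
    @IsClopen.compl _ (constructibleTopology _) _
      (Basic.isClopen_cons (PrimeSpectrum.basicOpen a).2 (PrimeSpectrum.isCompact_basicOpen a))
  have : {t : T A | a ∈ (h A t).asIdeal} =
      h A ⁻¹' (PrimeSpectrum.basicOpen a : Set (PrimeSpectrum A))ᶜ := by
    ext t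
    simp
  rw [this]
  exact @IsClopen.preimage _ _ _ (constructibleTopology _) _ hc _
    (WithTopology.continuous_ofTopology _)

lemma bijective_h : Function.Bijective (h A) :=
  ⟨fun a b hab => by cases a; cases b; simp_all [h], WithTopology.ofTopology_surjective _⟩

theorem totallySeparatedSpace : TotallySeparatedSpace (T A) := by
  rw [totallySeparatedSpace_iff_exists_isClopen]
  intro s t hst
  have hne : (h A s).asIdeal ≠ (h A t).asIdeal := fun he =>
    hst ((bijective_h A).1 (PrimeSpectrum.ext he))
  obtain ⟨a, ha⟩ : ∃ a, ¬(a ∈ (h A s).asIdeal ↔ a ∈ (h A t).asIdeal) := by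
    by_contra hall
    simp only [not_exists, not_not] at hall
    exact hne (Ideal.ext hall)
  by_cases has : a ∈ (h A s).asIdeal
  · exact ⟨_, consContinuous_h A a, has, fun hat => ha ⟨fun _ => hat, fun _ => has⟩⟩
  · exact ⟨_, (consContinuous_h A a).compl, has, fun hat => ha ⟨fun h' => (has h').elim,
      fun h' => (hat h').elim⟩⟩

/-- A projective (extremally disconnected) profinite cover of `T A`. -/
abbrev P : Type u := StoneCech (WithTopology (PrimeSpectrum A) ⊥)

theorem exists_cover :
    ∃ (_ : ExtremallyDisconnected (P A)) (_ : TotallyDisconnectedSpace (P A))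
      (f : P A → PrimeSpectrum A), AW.ConsContinuous f ∧ Function.Surjective f := by
  let D := WithTopology (PrimeSpectrum A) ⊥
  have : DiscreteTopology D := discreteTopology_iff_forall_isOpen.mpr fun s => by
    rw [WithTopology.isOpen_iff]
    exact trivial
  have hed : ExtremallyDisconnected (P A) :=
    CompactT2.Projective.extremallyDisconnected (StoneCech.projective (X := D))
  have := totallySeparatedSpace A
  let q : D → T A := fun d => WithTopology.toTopology _ (WithTopology.ofTopology d)
  have hq : Continuous q := continuous_of_discreteTopology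
  refine ⟨hed, inferInstance, h A ∘ stoneCechExtend hq, fun a => ?_, fun x => ?_⟩
  · exact (consContinuous_h A a).preimage (continuous_stoneCechExtend hq)
  · exact ⟨stoneCechUnit (WithTopology.toTopology _ x), by
      simp [stoneCechExtend_stoneCechUnit, q, h]⟩

end Groth.Agent.Lib.WLocal.Cons
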