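import Groth.Agent.Lib.WLocal.Glue
import Groth.Agent.Lib.WLocal.Cons
import Mathlib.RingTheory.Flat.FaithfullyFlat.Algebra

/-!
The w-localization, and rings over which ind-Zariski covers split.
-/

set_option autoImplicit false

universe u

namespace Groth.Agent.Lib.WLocal.Cover

open Set TopologicalSpace Topology
open Groth.Agent.Lib.Spectral Groth.Agent.Lib.WLocal Groth.Agent.Lib.IndEtale

variable {A B : Type u} [CommRing A] [CommRing B] [Algebra A B]

lemma isSpectralMap_comap {R S : Type u} [CommRing R] [CommRing S] (f : R →+* S) :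
    IsSpectralMap (PrimeSpectrum.comap f) := by
  classical
  refine ⟨PrimeSpectrum.continuous_comap f, fun U hUo hUc => ?_⟩
  obtain ⟨t, rfl⟩ := PrimeSpectrum.isCompact_isOpen_iff.mp ⟨hUc, hUo⟩
  refine (PrimeSpectrum.isCompact_isOpen_iff.mpr ⟨t.image f, ?_⟩).1
  rw [Finset.coe_image, preimage_compl, PrimeSpectrum.preimage_comap_zeroLocus]

/-- A map cons-continuous is continuous into the constructible topology. -/
lemma continuous_toTopology {T : Type u} [TopologicalSpace T] {h : T → PrimeSpectrum A}
    (hh : AW.ConsContinuous h) :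
    Continuous fun t => (WithTopology.toTopology _ (h t) : Cons.T A) := by
  refine @Continuous.comp _ _ _ _ (constructibleTopology (PrimeSpectrum A)) _ h _
    (WithTopology.continuous_toTopology _) ?_
  refine continuous_generateFrom_iff.mpr fun s hs => ?_
  have key : ∀ U : Set (PrimeSpectrum A), IsOpen U → IsCompact U → IsClopen (h ⁻¹' U) := by
    intro U hUo hUc
    obtain ⟨t, rfl⟩ := PrimeSpectrum.isCompact_isOpen_iff.mp ⟨hUc, hUo⟩
    have : h ⁻¹' (PrimeSpectrum.zeroLocus (t : Set A))ᶜ =
        (⋂ a ∈ t, {x | a ∈ (h x).asIdeal})ᶜ := by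
      ext x
      simp [Set.subset_def]
    rw [this]
    exact (isClopen_biInter_finset fun a _ => hh a).compl
  rcases hs with ⟨h1, h2⟩ | ⟨h1, h2⟩
  · exact (key s h1 h2).2
  · exact (by simpa using (key sᶜ h1.isOpen_compl h2).compl : IsClopen (h ⁻¹' s)).2

/-- Over a w-local ring with extremally disconnected `π₀`, an algebra with surjective spectrum
identifying local rings has a retraction. -/
theorem exists_retraction (hA : ProEtW.IsWLocal (PrimeSpectrum A))
    (hed : ExtremallyDisconnected (ConnectedComponents (PrimeSpectrum A)))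
    (hsurj : Function.Surjective (PrimeSpectrum.comap (algebraMap A B)))
    (hid : ∀ (q : Ideal B) (hq : q.IsPrime), IsClosed
      ({⟨q.comap (algebraMap A B), Ideal.IsPrime.comap _ (hK := hq)⟩} : Set (PrimeSpectrum A)) →
      Ident.IdentAt A q) :
    Nonempty (B →ₐ[A] A) := by
  obtain ⟨hTc, hT2, hTtd⟩ := Glue.profinite_clPts hA
  have := Components.t2Space_connectedComponents (X := PrimeSpectrum A)
  have : CompactSpace (ConnectedComponents (PrimeSpectrum A)) :=
    Function.Surjective.compactSpace ConnectedComponents.continuous_coe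
      ConnectedComponents.surjective_coe
  let m : Glue.ClPts A ≃ₜ ConnectedComponents (PrimeSpectrum A) :=
    Continuous.homeoOfEquivCompactToT2
      (f := Equiv.ofBijective _ (Components.bijective_mk_closedPoints hA.2.1 hA.2.2))
      (ConnectedComponents.continuous_coe.comp continuous_subtype_val)
  have : ExtremallyDisconnected (Glue.ClPts A) := extremallyDisconnected_of_homeo m.symm
  have := Cons.totallySeparatedSpace B
  let F : Cons.T B → PrimeSpectrum A := fun P => PrimeSpectrum.comap (algebraMap A B) (Cons.h B P)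
  have hF : Continuous F :=
    (PrimeSpectrum.continuous_comap _).comp
      (@Continuous.comp _ _ _ _ (constructibleTopology (PrimeSpectrum B)) _ _ _
        (continuous_id_of_le Basic.cons_le) (WithTopology.continuous_ofTopology _))
  let X' : Type u := {P : Cons.T B // IsClosed ({F P} : Set (PrimeSpectrum A))}
  have : CompactSpace X' := isCompact_iff_compactSpace.mp (hA.2.1.preimage hF).isCompact
  let π : X' → Glue.ClPts A := fun P => ⟨F P.1, P.2⟩
  have hπ : Continuous π := (hF.comp continuous_subtype_val).subtype_mk _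
  have hπs : Function.Surjective π := fun x => by
    obtain ⟨P, hP⟩ := hsurj x.1
    have hP' : F (WithTopology.toTopology _ P) = x.1 := hP
    exact ⟨⟨WithTopology.toTopology _ P, by rw [hP']; exact x.2⟩, Subtype.ext hP'⟩
  obtain ⟨s, hs, hπs'⟩ := CompactT2.ExtremallyDisconnected.projective (A := Glue.ClPts A)
    continuous_id hπ hπs
  let g : Glue.ClPts A → PrimeSpectrum B := fun x => Cons.h B (s x).1
  have hg : AW.ConsContinuous g := fun b =>
    (Cons.consContinuous_h B b).preimage (continuous_subtype_val.comp hs)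
  have hgF : ∀ x, PrimeSpectrum.comap (algebraMap A B) (g x) = x.1 := fun x =>
    congr_arg Subtype.val (congr_fun hπs' x)
  have : IsScalarTower A B (AW.Ring g) :=
    IsScalarTower.of_algebraMap_eq (R := A) (S := B) (A := AW.Ring g) fun a => by
    rw [IsScalarTower.algebraMap_apply A (LocallyConstant (Glue.ClPts A) B) (AW.Ring g) a,
      IsScalarTower.algebraMap_apply B (LocallyConstant (Glue.ClPts A) B) (AW.Ring g)
        (algebraMap A B a)]
    rfl
  have hcomap : ∀ Q : PrimeSpectrum (AW.Ring g),
      PrimeSpectrum.comap (algebraMap A (AW.Ring g)) Q = PrimeSpectrum.comap (algebraMap A B)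
        (PrimeSpectrum.comap (algebraMap B (AW.Ring g)) Q) := fun Q => by
    rw [← PrimeSpectrum.comap_comp_apply, ← IsScalarTower.algebraMap_eq]
  have hclosed : ∀ Q : Glue.ClPts (AW.Ring g), PrimeSpectrum.comap (algebraMap B (AW.Ring g)) Q.1 =
      g (LCSpec.toProd (AW.graph g) Q.1).2 := fun Q => by
    rw [← LCSpec.fst_toProd, ← (AW.isClosed_singleton_iff hg Q.1).mp Q.2]
  have hmap : ∀ Q : Glue.ClPts (AW.Ring g), PrimeSpectrum.comap (algebraMap A (AW.Ring g)) Q.1 =
      ((LCSpec.toProd (AW.graph g) Q.1).2).1 := fun Q => by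
    rw [hcomap, hclosed, hgF]
  have hmapc : ∀ Q : Glue.ClPts (AW.Ring g),
      IsClosed ({PrimeSpectrum.comap (algebraMap A (AW.Ring g)) Q.1} : Set _) := fun Q => by
    rw [hmap]
    exact (LCSpec.toProd (AW.graph g) Q.1).2.2
  have hbij := Glue.bijective_of_identAt (A := A) (B := AW.Ring g) hA (AW.isWLocal hg) hmapc
    ⟨fun Q Q' hQ => ?_, fun x => ⟨⟨AW.closedPt x, AW.isClosed_closedPt hg x⟩, ?_⟩⟩ fun Q => ?_
  · exact ⟨(AlgEquiv.ofBijective (Algebra.ofId A (AW.Ring g)) hbij).symm.toAlgHom.comp
      (IsScalarTower.toAlgHom A B (AW.Ring g))⟩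
  · have h2 : (LCSpec.toProd (AW.graph g) Q.1).2 = (LCSpec.toProd (AW.graph g) Q'.1).2 :=
      Subtype.ext (by rw [← hmap, ← hmap]; exact congr_arg Subtype.val hQ)
    refine Subtype.ext ((LCSpec.isEmbedding_toProd (AW.graph g)).injective (Prod.ext ?_ h2))
    rw [(AW.isClosed_singleton_iff hg Q.1).mp Q.2, (AW.isClosed_singleton_iff hg Q'.1).mp Q'.2, h2]
  · refine Subtype.ext ((hmap _).trans ?_)
    rw [AW.toProd_closedPt]
  · refine Ident.comp (B := B) (hid _ inferInstance ?_) (Ident.of_factorsZar (LCSpec.factorsZar_loc _) _)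
    have := hmapc Q
    rw [hcomap] at this
    exact this

/-- Transfer of w-locality along a retraction of rings. -/
theorem isWLocal_of_surjective {R : Type u} [CommRing R] (r : R →+* A) (hr : Function.Surjective r)
    (hR : ProEtW.IsWLocal (PrimeSpectrum R)) : ProEtW.IsWLocal (PrimeSpectrum A) := by
  have he := PrimeSpectrum.isClosedEmbedding_comap_of_surjective A r hr
  have hcl : ∀ P, IsClosed ({P} : Set (PrimeSpectrum A)) ↔
      IsClosed ({PrimeSpectrum.comap r P} : Set (PrimeSpectrum R)) := fun P => by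
    rw [he.isClosed_iff_image_isClosed, image_singleton]
  refine ⟨inferInstance, ?_, fun P => ?_⟩
  · simp only [hcl]
    exact hR.2.1.preimage he.continuous
  · obtain ⟨z, ⟨hz, hzs⟩, hzu⟩ := hR.2.2 (PrimeSpectrum.comap r P)
    obtain ⟨Q, rfl⟩ : z ∈ range (PrimeSpectrum.comap r) :=
      hzs.mem_closed he.isClosed_range (mem_range_self P)
    exact ⟨Q, ⟨(hcl Q).mpr hz, he.isInducing.specializes_iff.mp hzs⟩,
      fun Q' hQ' => he.injective (hzu _ ⟨(hcl Q').mp hQ'.1, hQ'.2.map he.continuous⟩)⟩

end Groth.Agent.Lib.WLocal.Cover
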