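import Groth.Agent.Lib.WLocal.Finite
import Groth.Agent.Lib.WLocal.Cover
import Mathlib.RingTheory.Localization.LocalizationLocalization

/-!
W-contractibility of quotients and of localisations along closed subsets.
-/

set_option autoImplicit false

universe u

open Topology Set

namespace Groth.Agent.Lib.WLocal.LocClosed

variable {D : Type u} [CommRing D]

lemma conditions (hD : EtPBC.IsWContractible D) :
    ProEtW.IsWLocal (PrimeSpectrum D) ∧
      ExtremallyDisconnected (ConnectedComponents (PrimeSpectrum D)) ∧
      ∀ (m : Ideal D) [m.IsMaximal],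
        EtCoh.IsStrictlyHenselianLocalRing (Localization.AtPrime m) :=
  Contract.conditions_of (Contract.hasIndEtaleRetractions_of_isWContractible hD)

lemma range_quotient (I : Ideal D) :
    range (PrimeSpectrum.comap (Ideal.Quotient.mk I)) = PrimeSpectrum.zeroLocus (I : Set D) := by
  rw [range_comap_of_surjective _ _ Ideal.Quotient.mk_surjective, Ideal.mk_ker]

/-- A quotient by an ideal with finitely generated radical class is w-contractible. -/
theorem isWContractible_quotient (hD : EtPBC.IsWContractible D) (J I : Ideal D) (hJ : J.FG)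
    (h : PrimeSpectrum.zeroLocus (I : Set D) = PrimeSpectrum.zeroLocus (J : Set D)) :
    EtPBC.IsWContractible (D ⧸ I) := by
  haveI : Algebra.FinitePresentation D (D ⧸ J) := Algebra.FinitePresentation.quotient hJ
  obtain ⟨-, hed, -⟩ := conditions (Finite.isWContractible (B := D ⧸ J) hD)
  obtain ⟨hw, -, -⟩ := conditions hD
  refine Contract.isWContractible_of
    (Cover.isWLocal_of_surjective (Ideal.Quotient.mk I) Ideal.Quotient.mk_surjective hw) ?_
    fun m _ => Groth.Agent.S0675.result (D ⧸ I)
      (RetractLoc.hasEtaleRetractions_quotient (Contract.hasEtaleRetractions_of_hasIndEtaleRetractions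
        (Contract.hasIndEtaleRetractions_of_isWContractible hD)) I) m
  have hI := PrimeSpectrum.isClosedEmbedding_comap_of_surjective _ (Ideal.Quotient.mk I)
    Ideal.Quotient.mk_surjective
  have hJ' := PrimeSpectrum.isClosedEmbedding_comap_of_surjective _ (Ideal.Quotient.mk J)
    Ideal.Quotient.mk_surjective
  let e : PrimeSpectrum (D ⧸ J) ≃ₜ PrimeSpectrum (D ⧸ I) :=
    (hJ'.isEmbedding.toHomeomorph.trans (Homeomorph.setCongr (by
      rw [range_quotient, range_quotient, h]))).trans hI.isEmbedding.toHomeomorph.symm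
  have := Components.t2Space_connectedComponents (X := PrimeSpectrum (D ⧸ I))
  have : CompactSpace (ConnectedComponents (PrimeSpectrum (D ⧸ J))) :=
    Function.Surjective.compactSpace ConnectedComponents.continuous_coe
      ConnectedComponents.surjective_coe
  let f := e.continuous.connectedComponentsMap
  let g := e.symm.continuous.connectedComponentsMap
  have hgf : ∀ x, g (f x) = x := fun x => by
    obtain ⟨x, rfl⟩ := ConnectedComponents.surjective_coe x
    exact congrArg ConnectedComponents.mk (e.symm_apply_apply x)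
  have hfg : ∀ x, f (g x) = x := fun x => by
    obtain ⟨x, rfl⟩ := ConnectedComponents.surjective_coe x
    exact congrArg ConnectedComponents.mk (e.apply_symm_apply x)
  exact extremallyDisconnected_of_homeo (Continuous.homeoOfEquivCompactToT2
    (f := ⟨f, g, hgf, hfg⟩) e.continuous.connectedComponentsMap_continuous)

/-- The localisation of a w-contractible ring along a closed subset with w-contractible reduced
structure is w-contractible. -/
theorem isWContractible_localization (hD : EtPBC.IsWContractible D) (S : Submonoid D) (I : Ideal D)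
    (hB : range (PrimeSpectrum.comap (algebraMap D (Localization S))) =
      {x | ∃ z, z ∈ PrimeSpectrum.zeroLocus (I : Set D) ∧ x ⤳ z})
    (hI : EtPBC.IsWContractible (D ⧸ I)) : EtPBC.IsWContractible (Localization S) := by
  obtain ⟨hw, -, hsh⟩ := conditions hD
  obtain ⟨hwI, hedI, -⟩ := conditions hI
  let c : PrimeSpectrum (Localization S) → PrimeSpectrum D :=
    PrimeSpectrum.comap (algebraMap D (Localization S))
  have hc : IsEmbedding c := PrimeSpectrum.localization_comap_isEmbedding (Localization S) S
  have hcont : Continuous c := hc.continuous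
  have hclI : ∀ {x z : PrimeSpectrum D}, z ∈ PrimeSpectrum.zeroLocus (I : Set D) → z ⤳ x →
      x ∈ PrimeSpectrum.zeroLocus (I : Set D) := fun hz hzx =>
    hzx.mem_closed (PrimeSpectrum.isClosed_zeroLocus _) hz
  have hcl : ∀ y, IsClosed ({y} : Set (PrimeSpectrum (Localization S))) ↔
      IsClosed ({c y} : Set (PrimeSpectrum D)) := fun y => by
    refine ⟨fun hy => ?_, fun hy => ?_⟩
    · obtain ⟨z, hz, hyz⟩ : ∃ z, z ∈ PrimeSpectrum.zeroLocus (I : Set D) ∧ c y ⤳ z :=
        hB.le ⟨y, rfl⟩
      obtain ⟨x, ⟨hx, hzx⟩, -⟩ := hw.2.2 z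
      obtain ⟨y', rfl⟩ : x ∈ range c :=
        hB.ge ⟨x, hclI hz hzx, specializes_rfl⟩
      rw [← Basic.eq_of_specializes_of_isClosed hy (hc.isInducing.specializes_iff.mp (hyz.trans hzx))]
      exact hx
    · convert hy.preimage hcont using 1
      ext y'
      simp [hc.injective.eq_iff]
  have hwB : ProEtW.IsWLocal (PrimeSpectrum (Localization S)) := by
    refine ⟨inferInstance, ?_, fun y => ?_⟩
    · convert hw.2.1.preimage hcont using 1
      ext y
      exact hcl y
    · obtain ⟨x, ⟨hx, hyx⟩, hu⟩ := hw.2.2 (c y)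
      obtain ⟨z, hz, hyz⟩ : ∃ z, z ∈ PrimeSpectrum.zeroLocus (I : Set D) ∧ c y ⤳ z :=
        hB.le ⟨y, rfl⟩
      obtain ⟨x', ⟨hx', hzx'⟩, -⟩ := hw.2.2 z
      obtain rfl := hu x' ⟨hx', hyz.trans hzx'⟩
      obtain ⟨y', rfl⟩ : x' ∈ range c :=
        hB.ge ⟨x', hclI hz hzx', specializes_rfl⟩
      exact ⟨y', ⟨(hcl y').mpr hx', hc.isInducing.specializes_iff.mp hyx⟩,
        fun w hw' => hc.injective (hu (c w) ⟨(hcl w).mp hw'.1, hw'.2.map hcont⟩)⟩
  refine Contract.isWContractible_of hwB ?_ fun m hm => ?_
  · have hS : ∀ s : S, IsUnit (Ideal.Quotient.mk I (s : D)) := fun s => by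
      by_contra hs
      obtain ⟨M, hM, hsM⟩ := Ideal.exists_le_maximal _ (mt Ideal.span_singleton_eq_top.mp hs)
      let x : PrimeSpectrum (D ⧸ I) := ⟨M, hM.isPrime⟩
      obtain ⟨y, hy⟩ : PrimeSpectrum.comap (Ideal.Quotient.mk I) x ∈ range c :=
        hB.ge ⟨_, (range_quotient I).le ⟨x, rfl⟩, specializes_rfl⟩
      have h1 : (s : D) ∈ (c y).asIdeal := hy.symm ▸ hsM (Ideal.mem_span_singleton_self _)
      exact y.2.ne_top (Ideal.eq_top_of_isUnit_mem _ h1 (IsLocalization.map_units (Localization S) s))
    let φ : Localization S →+* D ⧸ I := IsLocalization.lift hS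
    have hφ : φ.comp (algebraMap D (Localization S)) = Ideal.Quotient.mk I :=
      IsLocalization.lift_comp hS
    let q : PrimeSpectrum (D ⧸ I) → PrimeSpectrum (Localization S) := PrimeSpectrum.comap φ
    have hq : Continuous q := PrimeSpectrum.continuous_comap φ
    have hcq : ∀ x, c (q x) = PrimeSpectrum.comap (Ideal.Quotient.mk I) x := fun x => by
      change PrimeSpectrum.comap _ (PrimeSpectrum.comap φ x) = _
      rw [← PrimeSpectrum.comap_comp_apply, hφ]
    have hqi := PrimeSpectrum.isClosedEmbedding_comap_of_surjective _ (Ideal.Quotient.mk I)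
      Ideal.Quotient.mk_surjective
    have hclq : ∀ x, IsClosed ({x} : Set (PrimeSpectrum (D ⧸ I))) ↔
        IsClosed ({q x} : Set (PrimeSpectrum (Localization S))) := fun x => by
      rw [hcl, hcq, hqi.isClosed_iff_image_isClosed, image_singleton]
    let f := hq.connectedComponentsMap
    have hb := Components.bijective_mk_closedPoints hwI.2.1 hwI.2.2
    have hbB := Components.bijective_mk_closedPoints hwB.2.1 hwB.2.2
    have hf : Function.Bijective f := by
      refine ⟨fun a b hab => ?_, fun b => ?_⟩
      · obtain ⟨⟨x, hx⟩, rfl⟩ := hb.2 a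
        obtain ⟨⟨y, hy⟩, rfl⟩ := hb.2 b
        have h1 : q x = q y :=
          congrArg Subtype.val (hbB.1 (a₁ := ⟨q x, (hclq x).mp hx⟩) (a₂ := ⟨q y, (hclq y).mp hy⟩) hab)
        have h2 := congrArg c h1
        rw [hcq, hcq] at h2
        obtain rfl := hqi.injective h2
        rfl
      · obtain ⟨⟨y, hy⟩, rfl⟩ := hbB.2 b
        obtain ⟨z, hz, hyz⟩ : ∃ z, z ∈ PrimeSpectrum.zeroLocus (I : Set D) ∧ c y ⤳ z :=
          hB.le ⟨y, rfl⟩
        obtain rfl := Basic.eq_of_specializes_of_isClosed ((hcl y).mp hy) hyz
        obtain ⟨x, hx⟩ := (range_quotient I).ge hz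
        refine ⟨ConnectedComponents.mk x, congrArg ConnectedComponents.mk (hc.injective ?_)⟩
        rw [hcq, hx]
    have := Components.t2Space_connectedComponents (X := PrimeSpectrum (Localization S))
    have : CompactSpace (ConnectedComponents (PrimeSpectrum (D ⧸ I))) :=
      Function.Surjective.compactSpace ConnectedComponents.continuous_coe
        ConnectedComponents.surjective_coe
    exact extremallyDisconnected_of_homeo (Continuous.homeoOfEquivCompactToT2
      (f := Equiv.ofBijective f hf) hq.connectedComponentsMap_continuous)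
  · haveI : (m.comap (algebraMap D (Localization S))).IsMaximal :=
      (PrimeSpectrum.isClosed_singleton_iff_isMaximal _).mp
        ((hcl ⟨m, hm.isPrime⟩).mp ((PrimeSpectrum.isClosed_singleton_iff_isMaximal _).mpr hm))
    exact SHCover.isStrictlyHenselian_of_ringEquiv
      (IsLocalization.localizationLocalizationAtPrimeIsoLocalization (M := S) m).toRingEquiv (hsh _)

end Groth.Agent.Lib.WLocal.LocClosed
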