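import Groth.Agent.Lib.WLocal.LCSpec
import Mathlib.RingTheory.Flat.FaithfullyFlat.Algebra

/-!
The w-local ring attached to a map `h : T → Spec A` from a profinite space, continuous for the
constructible topology: `LocallyConstant T A` localized along the graph of `h`.
-/

set_option autoImplicit false

universe u

namespace Groth.Agent.Lib.WLocal.AW

open Set TopologicalSpace Topology
open Groth.Agent.Lib.IndEtale Groth.Agent.Lib.WLocal

variable {A : Type u} [CommRing A] {T : Type u} [TopologicalSpace T] [CompactSpace T] [T2Space T]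
  [TotallyDisconnectedSpace T] (h : T → PrimeSpectrum A)

/-- The graph of `h`. -/
def graph : Set (PrimeSpectrum A × T) := range fun t => (h t, t)

/-- The ring. -/
abbrev Ring : Type u := LCSpec.Loc (graph h)

/-- Continuity into the constructible topology. -/
def ConsContinuous : Prop := ∀ a : A, IsClopen {t | a ∈ (h t).asIdeal}

variable {h} (hh : ConsContinuous h)
include hh

lemma range_toProd : range (LCSpec.toProd (graph h)) = {p | p.1 ⤳ h p.2} := by
  rw [LCSpec.range_toProd]
  ext ⟨x, t⟩
  simp only [mem_ofPred_eq, LCSpec.mem_sub, ← PrimeSpectrum.le_iff_specializes, graph,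
    forall_mem_range]
  constructor
  · intro hx a ha
    by_contra hat
    have hU : IsClopen {s | a ∈ (h s).asIdeal}ᶜ := (hh a).compl
    refine hx (LCSpec.atOn hU a) (fun s => ?_) ?_
    · by_cases hs : a ∈ (h s).asIdeal
      · rw [LCSpec.atOn_of_notMem hU a (by simpa using hs)]
        exact fun h' => (h s).2.ne_top ((Ideal.eq_top_iff_one _).mpr h')
      · rwa [LCSpec.atOn_of_mem hU a hs]
    · rwa [LCSpec.atOn_of_mem hU a hat]
  · intro hx f hf hfx
    exact hf t (hx hfx)

lemma specializes_toProd (P : PrimeSpectrum (Ring h)) :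
    (LCSpec.toProd (graph h) P).1 ⤳ h (LCSpec.toProd (graph h) P).2 := by
  have := mem_range_self (f := LCSpec.toProd (graph h)) P
  rw [range_toProd hh] at this
  exact this

omit hh in
lemma specializes_iff (P Q : PrimeSpectrum (Ring h)) :
    P ⤳ Q ↔ (LCSpec.toProd (graph h) P).1 ⤳ (LCSpec.toProd (graph h) Q).1 ∧
      (LCSpec.toProd (graph h) P).2 = (LCSpec.toProd (graph h) Q).2 := by
  rw [← (LCSpec.isEmbedding_toProd (graph h)).isInducing.specializes_iff]
  constructor
  · intro hs
    exact ⟨hs.map continuous_fst, specializes_iff_eq.mp (hs.map continuous_snd)⟩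
  · rintro ⟨h1, h2⟩
    exact h1.prod (specializes_iff_eq.mpr h2)

/-- The point of `Spec (Ring h)` over `t`. -/
noncomputable def closedPt (t : T) : PrimeSpectrum (Ring h) :=
  (LCSpec.subset_range_toProd (graph h) (mem_range_self t)).choose

omit hh in
lemma toProd_closedPt (t : T) : LCSpec.toProd (graph h) (closedPt t) = (h t, t) :=
  (LCSpec.subset_range_toProd (graph h) (mem_range_self t)).choose_spec

lemma specializes_closedPt (P : PrimeSpectrum (Ring h)) :
    P ⤳ closedPt (LCSpec.toProd (graph h) P).2 := by
  rw [specializes_iff, toProd_closedPt]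
  exact ⟨specializes_toProd hh P, rfl⟩

lemma isClosed_singleton_iff (P : PrimeSpectrum (Ring h)) :
    IsClosed ({P} : Set _) ↔
      (LCSpec.toProd (graph h) P).1 = h (LCSpec.toProd (graph h) P).2 := by
  rw [Basic.isClosed_singleton_iff_forall_specializes]
  constructor
  · intro hP
    have := hP _ (specializes_closedPt hh P)
    conv_lhs => rw [← this, toProd_closedPt]
  · intro hP Q hQ
    obtain ⟨h1, h2⟩ := (specializes_iff P Q).mp hQ
    refine (LCSpec.isEmbedding_toProd (graph h)).injective (Prod.ext ?_ h2.symm)
    refine (Specializes.antisymm ?_ h1).eq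
    rw [hP, h2]
    exact specializes_toProd hh Q

lemma isClosed_closedPt (t : T) : IsClosed ({closedPt (h := h) t} : Set _) := by
  rw [isClosed_singleton_iff hh, toProd_closedPt]

lemma isClosed_closedPoints :
    IsClosed {P : PrimeSpectrum (Ring h) | IsClosed ({P} : Set _)} := by
  simp only [isClosed_singleton_iff hh]
  have : {P : PrimeSpectrum (Ring h) |
      (LCSpec.toProd (graph h) P).1 = h (LCSpec.toProd (graph h) P).2} =
      (LCSpec.toProd (graph h) ⁻¹'
        ⋃ a : A, (PrimeSpectrum.basicOpen a : Set (PrimeSpectrum A)) ×ˢ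
          {t | a ∈ (h t).asIdeal})ᶜ := by
    ext P
    simp only [mem_ofPred_eq, mem_compl_iff, mem_preimage, mem_iUnion, mem_prod, not_exists,
      SetLike.mem_coe, PrimeSpectrum.mem_basicOpen, not_and, not_imp_not]
    constructor
    · intro hP a hat
      exact hP ▸ hat
    · intro hP
      refine PrimeSpectrum.ext (le_antisymm
        ((PrimeSpectrum.le_iff_specializes _ _).mpr (specializes_toProd hh P)) ?_)
      intro a ha
      exact hP a ha
  rw [this]
  exact ((isOpen_iUnion fun a => (PrimeSpectrum.basicOpen a).2.prod (hh a).2).preimage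
    (LCSpec.isEmbedding_toProd (graph h)).continuous).isClosed_compl

theorem isWLocal : ProEtW.IsWLocal (PrimeSpectrum (Ring h)) := by
  refine ⟨inferInstance, isClosed_closedPoints hh, fun P => ?_⟩
  refine ⟨closedPt (LCSpec.toProd (graph h) P).2,
    ⟨isClosed_closedPt hh _, specializes_closedPt hh P⟩, fun Q hQ => ?_⟩
  refine (LCSpec.isEmbedding_toProd (graph h)).injective ?_
  rw [toProd_closedPt]
  refine Prod.ext ?_ ((specializes_iff P Q).mp hQ.2).2.symm
  rw [(isClosed_singleton_iff hh Q).mp hQ.1, ((specializes_iff P Q).mp hQ.2).2]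

omit hh in
lemma comap_closedPt (t : T) :
    PrimeSpectrum.comap (algebraMap A (Ring h)) (closedPt t) = h t := by
  rw [← LCSpec.fst_toProd, toProd_closedPt]

theorem exists_pi0_homeomorph :
    ∃ e : ConnectedComponents (PrimeSpectrum (Ring h)) ≃ₜ T,
      ∀ P, e (ConnectedComponents.mk P) = (LCSpec.toProd (graph h) P).2 := by
  have hc : Continuous fun P => (LCSpec.toProd (graph h) P).2 :=
    continuous_snd.comp (LCSpec.isEmbedding_toProd (graph h)).continuous
  let f := hc.connectedComponentsLift
  have hf : ∀ P, f (ConnectedComponents.mk P) = (LCSpec.toProd (graph h) P).2 :=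
    hc.connectedComponentsLift_apply_coe
  have hbij : Function.Bijective f := by
    refine ⟨fun a b hab => ?_, fun t => ⟨ConnectedComponents.mk (closedPt t), ?_⟩⟩
    · obtain ⟨P, rfl⟩ := ConnectedComponents.surjective_coe a
      obtain ⟨Q, rfl⟩ := ConnectedComponents.surjective_coe b
      rw [hf, hf] at hab
      rw [← Basic.connectedComponents_mk_of_specializes (specializes_closedPt hh P),
        ← Basic.connectedComponents_mk_of_specializes (specializes_closedPt hh Q), hab]
    · rw [hf, toProd_closedPt]
  have : CompactSpace (ConnectedComponents (PrimeSpectrum (Ring h))) :=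
    Function.Surjective.compactSpace ConnectedComponents.continuous_coe
      ConnectedComponents.surjective_coe
  exact ⟨Continuous.homeoOfEquivCompactToT2 (f := Equiv.ofBijective f hbij)
    hc.connectedComponentsLift_continuous, hf⟩

omit hh in
theorem isIndZariski : EtPBC.IsIndZariski A (Ring h) :=
  Zariski.of_factors (LCSpec.factorsZar_loc (graph h))

omit hh in
theorem faithfullyFlat (hs : Function.Surjective h) : Module.FaithfullyFlat A (Ring h) := by
  have : Module.Flat A (Ring h) := Zariski.flat (LCSpec.factorsZar_loc (graph h))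
  refine Module.FaithfullyFlat.of_comap_surjective fun x => ?_
  obtain ⟨t, rfl⟩ := hs x
  exact ⟨closedPt t, comap_closedPt t⟩

end Groth.Agent.Lib.WLocal.AW
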