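import Groth.Agent.Lib.WLocal.Components
import Groth.Prelude.Def_ProEtW
import Mathlib.Topology.QuasiSeparated
import Mathlib.Topology.Sober

/-!
w-local spaces: closed subsets, pullback along profinite spaces.
-/

set_option autoImplicit false

universe u

namespace Groth.Agent.Lib.WLocal.Basic

open Set TopologicalSpace Topology
open Groth.Agent.Lib.Spectral

theorem spectralSpace_of_profinite (T : Type*) [TopologicalSpace T] [CompactSpace T] [T2Space T]
    [TotallyDisconnectedSpace T] : SpectralSpace T :=
  have : PrespectralSpace T := .of_isTopologicalBasis (isTopologicalBasis_isClopen (X := T))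
    (fun _s hs => hs.1.isCompact)
  have : QuasiSeparatedSpace T := ⟨fun _ _ _ hUc _ hVc => hUc.inter hVc⟩
  {}

lemma isClosed_singleton_iff_forall_specializes {X : Type*} [TopologicalSpace X] [T0Space X]
    {x : X} : IsClosed ({x} : Set X) ↔ ∀ y, x ⤳ y → y = x := by
  refine ⟨fun h y hy => ?_, fun h => ?_⟩
  · simpa using hy.mem_closed h rfl
  · rw [← closure_subset_iff_isClosed]
    exact fun y hy => h y (specializes_iff_mem_closure.mpr hy)

lemma eq_of_specializes_of_isClosed {X : Type*} [TopologicalSpace X] {x y : X}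
    (h : IsClosed ({x} : Set X)) (hy : x ⤳ y) : y = x := by
  simpa using hy.mem_closed h rfl

/-- A closed subset of a w-local space is w-local. -/
theorem isWLocal_of_isClosed {X : Type u} [TopologicalSpace X] (hX : ProEtW.IsWLocal X)
    {Y : Set X} (hY : IsClosed Y) : ProEtW.IsWLocal ↥Y := by
  obtain ⟨hs, hc, hu⟩ := hX
  have hcl : ∀ y : Y, IsClosed ({y} : Set Y) ↔ IsClosed ({(y : X)} : Set X) := fun y => by
    rw [hY.isClosedEmbedding_subtypeVal.isClosed_iff_image_isClosed, image_singleton]
  refine ⟨Subspace.spectralSpace (Basic.isClosed_cons_of_isClosed hY), ?_, fun y => ?_⟩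
  · convert hc.preimage (continuous_subtype_val (p := fun x => x ∈ Y)) using 1
    ext y
    exact hcl y
  · obtain ⟨z, hz, hzu⟩ := hu y
    refine ⟨⟨z, hz.2.mem_closed hY y.2⟩, ⟨(hcl _).mpr hz.1, (subtype_specializes_iff _ _).mpr hz.2⟩,
      fun w hw => Subtype.ext (hzu w ⟨(hcl w).mp hw.1, (subtype_specializes_iff _ _).mp hw.2⟩)⟩

section Pullback

variable {X T : Type u} [TopologicalSpace X] [TopologicalSpace T]
  (g : C(T, ConnectedComponents X))

/-- The fibre product of `X` and `T` over `π₀ X`. -/
abbrev Pb : Type u := {p : X × T // ConnectedComponents.mk p.1 = g p.2}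

lemma connectedComponents_mk_of_specializes {x y : X} (h : x ⤳ y) :
    ConnectedComponents.mk y = ConnectedComponents.mk x :=
  ConnectedComponents.coe_eq_coe'.mpr
    (h.mem_closed isClosed_connectedComponent mem_connectedComponent)

lemma pb_specializes_iff [T1Space T] {p q : Pb g} :
    p ⤳ q ↔ p.1.1 ⤳ q.1.1 ∧ p.1.2 = q.1.2 := by
  rw [subtype_specializes_iff, specializes_prod, specializes_iff_eq (x := p.1.2) (y := q.1.2)]

variable [SpectralSpace X]

lemma isClosed_pb : IsClosed {p : X × T | ConnectedComponents.mk p.1 = g p.2} :=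
  have := Components.t2Space_connectedComponents (X := X)
  isClosed_eq (ConnectedComponents.continuous_coe.comp continuous_fst)
    (g.continuous.comp continuous_snd)

variable [CompactSpace T] [T2Space T] [TotallyDisconnectedSpace T]

theorem spectralSpace_pb : SpectralSpace (Pb g) :=
  have := spectralSpace_of_profinite T
  have := Product.spectralSpace_prod (X := X) (Y := T)
  Subspace.spectralSpace (Basic.isClosed_cons_of_isClosed (isClosed_pb g))

theorem isSpectralMap_fst : IsSpectralMap (fun p : Pb g => p.1.1) := by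
  refine ⟨continuous_fst.comp continuous_subtype_val, fun U hUo hUc => ?_⟩
  rw [IsEmbedding.subtypeVal.isCompact_iff]
  have : (Subtype.val '' ((fun p : Pb g => p.1.1) ⁻¹' U)) =
      U ×ˢ univ ∩ {p : X × T | ConnectedComponents.mk p.1 = g p.2} := by
    ext p
    simp [and_comm]
  rw [this]
  exact (hUc.prod isCompact_univ).inter_right (isClosed_pb g)

/-- The fibre over `t` is connected. -/
lemma isPreconnected_fibre (t : T) : IsPreconnected {p : Pb g | p.1.2 = t} := by
  refine (IsEmbedding.subtypeVal.isInducing.isPreconnected_image).mp ?_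
  obtain ⟨x, hx⟩ := ConnectedComponents.surjective_coe (g t)
  have : (Subtype.val '' {p : Pb g | p.1.2 = t}) = (fun z => (z, t)) '' connectedComponent x := by
    ext p
    constructor
    · rintro ⟨q, hq, rfl⟩
      obtain ⟨⟨a, b⟩, hab⟩ := q
      obtain rfl : b = t := hq
      exact ⟨a, ConnectedComponents.coe_eq_coe'.mp (hab.trans hx.symm), rfl⟩
    · rintro ⟨z, hz, rfl⟩
      exact ⟨⟨(z, t), (ConnectedComponents.coe_eq_coe'.mpr hz).trans hx⟩, rfl, rfl⟩
  rw [this]
  exact isPreconnected_connectedComponent.image _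
    (continuous_id.prodMk continuous_const).continuousOn

lemma mk_eq_iff {p q : Pb g} :
    ConnectedComponents.mk p = ConnectedComponents.mk q ↔ p.1.2 = q.1.2 := by
  constructor
  · intro h
    exact Continuous.image_eq_of_connectedComponent_eq
      (continuous_snd.comp continuous_subtype_val) p q (ConnectedComponents.coe_eq_coe.mp h)
  · intro h
    exact ConnectedComponents.coe_eq_coe'.mpr
      ((isPreconnected_fibre g q.1.2).subset_connectedComponent rfl h)

theorem exists_pi0_homeomorph :
    ∃ e : ConnectedComponents (Pb g) ≃ₜ T,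
      ∀ y : Pb g, e (ConnectedComponents.mk y) = y.1.2 := by
  have := spectralSpace_pb g
  have hc : Continuous fun p : Pb g => p.1.2 := continuous_snd.comp continuous_subtype_val
  let f := hc.connectedComponentsLift
  have hf : ∀ p, f (ConnectedComponents.mk p) = p.1.2 := hc.connectedComponentsLift_apply_coe
  have hbij : Function.Bijective f := by
    refine ⟨fun a b hab => ?_, fun t => ?_⟩
    · obtain ⟨p, rfl⟩ := ConnectedComponents.surjective_coe a
      obtain ⟨q, rfl⟩ := ConnectedComponents.surjective_coe b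
      rw [hf, hf] at hab
      exact (mk_eq_iff g).mpr hab
    · obtain ⟨x, hx⟩ := ConnectedComponents.surjective_coe (g t)
      exact ⟨ConnectedComponents.mk ⟨(x, t), hx⟩, hf _⟩
  have : CompactSpace (ConnectedComponents (Pb g)) :=
    Function.Surjective.compactSpace ConnectedComponents.continuous_coe
      ConnectedComponents.surjective_coe
  exact ⟨Continuous.homeoOfEquivCompactToT2 (f := Equiv.ofBijective f hbij)
    hc.connectedComponentsLift_continuous, hf⟩

theorem isWLocal_pb (hX : ProEtW.IsWLocal X) :
    ProEtW.IsWLocal (Pb g) ∧ ProEtW.IsWLocalMap (fun p : Pb g => p.1.1) ∧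
      ProEtW.closedPoints (Pb g) = (fun p : Pb g => p.1.1) ⁻¹' ProEtW.closedPoints X := by
  have := spectralSpace_pb g
  have hcl : ProEtW.closedPoints (Pb g) = (fun p : Pb g => p.1.1) ⁻¹' ProEtW.closedPoints X := by
    ext p
    simp only [ProEtW.closedPoints, mem_ofPred_eq, mem_preimage,
      isClosed_singleton_iff_forall_specializes]
    constructor
    · intro h y hy
      have := h ⟨(y, p.1.2), (connectedComponents_mk_of_specializes hy).trans p.2⟩
        ((pb_specializes_iff g).mpr ⟨hy, rfl⟩)
      exact congr($(this).1.1)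
    · intro h q hq
      obtain ⟨h1, h2⟩ := (pb_specializes_iff g).mp hq
      exact Subtype.ext (Prod.ext (h _ h1) h2.symm)
  refine ⟨⟨spectralSpace_pb g, ?_, fun p => ?_⟩, ⟨isSpectralMap_fst g, fun p hp => ?_⟩, hcl⟩
  · change IsClosed (ProEtW.closedPoints (Pb g))
    rw [hcl]
    exact hX.2.1.preimage (continuous_fst.comp continuous_subtype_val)
  · obtain ⟨z, ⟨hz, hzs⟩, hzu⟩ := hX.2.2 p.1.1
    refine ⟨⟨(z, p.1.2), (connectedComponents_mk_of_specializes hzs).trans p.2⟩,
      ⟨?_, (pb_specializes_iff g).mpr ⟨hzs, rfl⟩⟩, fun q hq => ?_⟩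
    · change (_ : Pb g) ∈ ProEtW.closedPoints (Pb g)
      rw [hcl]
      exact hz
    · obtain ⟨h1, h2⟩ := (pb_specializes_iff g).mp hq.2
      have hq1 : q ∈ ProEtW.closedPoints (Pb g) := hq.1
      rw [hcl] at hq1
      exact Subtype.ext (Prod.ext (hzu _ ⟨hq1, h1⟩) h2.symm)
  · have hp' : p ∈ ProEtW.closedPoints (Pb g) := hp
    rw [hcl] at hp'
    exact hp'

end Pullback

end Groth.Agent.Lib.WLocal.Basic
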