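import Groth.Agent.Lib.WLocal.AW
import Groth.Agent.Lib.IndEtale.Ident

/-!
Maps into rings with w-local spectrum, and when they are bijective.
-/

set_option autoImplicit false

universe u

namespace Groth.Agent.Lib.WLocal.Glue

open Set TopologicalSpace Topology
open Groth.Agent.Lib.Spectral Groth.Agent.Lib.WLocal Groth.Agent.Lib.IndEtale

/-- The closed points of `Spec B`. -/
abbrev ClPts (B : Type u) [CommRing B] : Type u :=
  {P : PrimeSpectrum B // IsClosed ({P} : Set (PrimeSpectrum B))}

variable {B : Type u} [CommRing B]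

lemma profinite_clPts (hB : ProEtW.IsWLocal (PrimeSpectrum B)) :
    CompactSpace (ClPts B) ∧ T2Space (ClPts B) ∧ TotallyDisconnectedSpace (ClPts B) := by
  have : SpectralSpace {P : PrimeSpectrum B | IsClosed ({P} : Set _)} :=
    Subspace.spectralSpace (Basic.isClosed_cons_of_isClosed hB.2.1)
  have : SpectralSpace (ClPts B) := this
  have : T1Space (ClPts B) := ⟨fun z => by
    convert z.2.preimage continuous_subtype_val
    ext w
    simp [Subtype.ext_iff]⟩
  have := Components.totallySeparatedSpace_of_t1 (X := ClPts B)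
  exact ⟨inferInstance, inferInstance, inferInstance⟩

lemma consContinuous_comap {A : Type u} [CommRing A] [Algebra A B]
    (hB : ProEtW.IsWLocal (PrimeSpectrum B)) :
    AW.ConsContinuous fun Q : ClPts B => PrimeSpectrum.comap (algebraMap A B) Q.1 := by
  intro a
  obtain ⟨hc, ht2, -⟩ := profinite_clPts hB
  set s := {Q : ClPts B | a ∈ (PrimeSpectrum.comap (algebraMap A B) Q.1).asIdeal}
  have hs : s = (Subtype.val ⁻¹'
      (PrimeSpectrum.basicOpen (algebraMap A B a) : Set (PrimeSpectrum B)))ᶜ := by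
    ext Q
    simp [s]
  refine ⟨hs ▸ ((PrimeSpectrum.basicOpen _).2.preimage continuous_subtype_val).isClosed_compl, ?_⟩
  have hcomp : IsCompact sᶜ := by
    rw [IsEmbedding.subtypeVal.isCompact_iff, hs, compl_compl, image_preimage_eq_inter_range,
      Subtype.range_coe_subtype]
    exact (PrimeSpectrum.isCompact_basicOpen _).inter_right hB.2.1
  simpa using hcomp.isClosed.isOpen_compl

/-- Clopen subsets of the closed points are cut out by idempotents. -/
lemma exists_idempotent (hB : ProEtW.IsWLocal (PrimeSpectrum B)) {U : Set (ClPts B)}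
    (hU : IsClopen U) :
    ∃ e : B, IsIdempotentElem e ∧ ∀ Q : ClPts B, e ∈ Q.1.asIdeal ↔ Q ∉ U := by
  obtain ⟨hc, ht2, -⟩ := profinite_clPts hB
  have := Components.t2Space_connectedComponents (X := PrimeSpectrum B)
  have : CompactSpace (ConnectedComponents (PrimeSpectrum B)) :=
    Function.Surjective.compactSpace ConnectedComponents.continuous_coe
      ConnectedComponents.surjective_coe
  have hbij := Components.bijective_mk_closedPoints hB.2.1 hB.2.2
  let m : ClPts B ≃ₜ ConnectedComponents (PrimeSpectrum B) :=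
    Continuous.homeoOfEquivCompactToT2 (f := Equiv.ofBijective _ hbij)
      (ConnectedComponents.continuous_coe.comp continuous_subtype_val)
  have hm : IsClopen (ConnectedComponents.mk ⁻¹' (m.symm ⁻¹' U) : Set (PrimeSpectrum B)) :=
    (hU.preimage m.symm.continuous).preimage ConnectedComponents.continuous_coe
  obtain ⟨e, he, heU⟩ := PrimeSpectrum.exists_idempotent_basicOpen_eq_of_isClopen hm
  refine ⟨e, he, fun Q => ?_⟩
  have h1 : Q.1 ∈ ConnectedComponents.mk ⁻¹' (m.symm ⁻¹' U) ↔ Q ∈ U := by
    rw [mem_preimage, mem_preimage, show m.symm (ConnectedComponents.mk Q.1) = Q from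
      m.symm_apply_apply Q]
  rw [← h1, heU]
  simp

/-- Two elements equal in all local rings at closed points are equal. -/
lemma eq_of_forall_local {x y : B}
    (h : ∀ Q : ClPts B, ∃ s ∉ Q.1.asIdeal, s * (x - y) = 0) : x = y := by
  rw [← sub_eq_zero]
  by_contra hne
  obtain ⟨m, hm, hle⟩ := Ideal.exists_le_maximal ((⊥ : Ideal B).colon {x - y}) (fun htop => hne (by
    have h1 : (1 : B) ∈ (⊥ : Ideal B).colon {x - y} := htop ▸ Submodule.mem_top
    simpa [Submodule.mem_colon_singleton] using h1))
  obtain ⟨s, hs, hs'⟩ := h ⟨⟨m, hm.isPrime⟩, (PrimeSpectrum.isClosed_singleton_iff_isMaximal _).mpr hm⟩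
  exact hs (hle (Submodule.mem_colon_singleton.mpr (by simpa using hs')))

section Bijective

variable {A : Type u} [CommRing A] [Algebra A B]

/-- A map of rings with w-local spectra, bijective on closed points and on local rings at them,
is bijective. -/
theorem bijective_of_identAt (hA : ProEtW.IsWLocal (PrimeSpectrum A))
    (hB : ProEtW.IsWLocal (PrimeSpectrum B))
    (hmap : ∀ Q : ClPts B, IsClosed ({PrimeSpectrum.comap (algebraMap A B) Q.1} : Set _))
    (hbij : Function.Bijective
      (fun Q : ClPts B => (⟨PrimeSpectrum.comap (algebraMap A B) Q.1, hmap Q⟩ : ClPts A)))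
    (hid : ∀ Q : ClPts B, Ident.IdentAt A Q.1.asIdeal) :
    Function.Bijective (algebraMap A B) := by
  obtain ⟨hBc, hB2, -⟩ := profinite_clPts hB
  obtain ⟨hAc, hA2, hAtd⟩ := profinite_clPts hA
  let θ : ClPts B → ClPts A := fun Q => ⟨PrimeSpectrum.comap (algebraMap A B) Q.1, hmap Q⟩
  have hθ : Continuous θ :=
    ((PrimeSpectrum.continuous_comap _).comp continuous_subtype_val).subtype_mk _
  constructor
  · rw [injective_iff_map_eq_zero]
    intro a ha
    refine eq_of_forall_local (B := A) fun P => ?_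
    obtain ⟨Q, rfl⟩ := hbij.2 P
    obtain ⟨c, hc, hca⟩ := (hid Q).1 a ⟨1,
      fun h => Q.1.2.ne_top ((Ideal.eq_top_iff_one _).mpr h), by rw [one_mul, ha]⟩
    exact ⟨c, hc, by simpa using hca⟩
  · intro b
    let J : Ideal A :=
      { carrier := {a | algebraMap A B a * b ∈ Set.range (algebraMap A B)}
        add_mem' := fun {x y} ⟨x', hx⟩ ⟨y', hy⟩ => ⟨x' + y', by rw [map_add, map_add, add_mul, hx, hy]⟩
        zero_mem' := ⟨0, by simp⟩
        smul_mem' := fun r x ⟨x', hx⟩ => ⟨r * x', by rw [map_mul, hx, smul_eq_mul, map_mul, mul_assoc]⟩ }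
    suffices hJ : J = ⊤ by
      obtain ⟨a, ha⟩ := (hJ ▸ Submodule.mem_top : (1 : A) ∈ J)
      exact ⟨a, by rw [ha, map_one, one_mul]⟩
    by_contra hne
    obtain ⟨m, hm, hle⟩ := Ideal.exists_le_maximal J hne
    obtain ⟨Q, hQ⟩ := hbij.2 ⟨⟨m, hm.isPrime⟩,
      (PrimeSpectrum.isClosed_singleton_iff_isMaximal _).mpr hm⟩
    have hmQ : ∀ z, z ∈ m ↔ algebraMap A B z ∈ Q.1.asIdeal := fun z => by
      rw [show m = (θ Q).1.asIdeal from congr($(hQ.symm).1.asIdeal)]
      rfl
    obtain ⟨a, c, hc, s, hs, he⟩ := (hid Q).2 b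
    set z := algebraMap A B c * b - algebraMap A B a
    -- the closed points near which `z` may be nonzero
    let K : Set (ClPts B) := {Q' | ∀ w, w * z = 0 → w ∈ Q'.1.asIdeal}
    have hK : IsClosed K := by
      have : K = ⋂ w ∈ {w : B | w * z = 0}, (Subtype.val ⁻¹' PrimeSpectrum.zeroLocus {w}) := by
        ext Q'
        simp [K]
      rw [this]
      exact isClosed_biInter fun w _ =>
        (PrimeSpectrum.isClosed_zeroLocus _).preimage continuous_subtype_val
    have hQK : θ Q ∉ θ '' K := fun hQK => by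
      rw [Function.Injective.mem_set_image hbij.1] at hQK
      exact hs (hQK s he)
    obtain ⟨V, hV, hQV, hVK⟩ := compact_exists_isClopen_in_isOpen
      ((hK.isCompact.image hθ).isClosed.isOpen_compl) hQK
    obtain ⟨e, hee, heV⟩ := exists_idempotent hA hV
    have heQ : algebraMap A B e ∉ Q.1.asIdeal := fun h => (heV (θ Q)).mp h hQV
    have hez : algebraMap A B e * z = 0 := by
      by_contra hne'
      obtain ⟨M, hM, hMle⟩ := Ideal.exists_le_maximal ((⊥ : Ideal B).colon {z}) (fun htop => hne' (by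
        have h1 : algebraMap A B e ∈ (⊥ : Ideal B).colon {z} := htop ▸ Submodule.mem_top
        simpa [Submodule.mem_colon_singleton] using h1))
      let Q' : ClPts B := ⟨⟨M, hM.isPrime⟩, (PrimeSpectrum.isClosed_singleton_iff_isMaximal _).mpr hM⟩
      have hQ'K : Q' ∈ K := fun w hw => hMle (Submodule.mem_colon_singleton.mpr (by simpa using hw))
      have heM : algebraMap A B e ∈ M := (heV (θ Q')).mpr fun h => hVK h ⟨Q', hQ'K, rfl⟩
      -- every prime over the annihilator contains `e`
      have hrad : algebraMap A B e ∈ ((⊥ : Ideal B).colon {z}).radical := by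
        rw [Ideal.radical_eq_sInf, Submodule.mem_sInf]
        rintro P ⟨hP, hPp⟩
        obtain ⟨N, hN, hPN⟩ := Ideal.exists_le_maximal P hPp.ne_top
        let Q'' : ClPts B := ⟨⟨N, hN.isPrime⟩, (PrimeSpectrum.isClosed_singleton_iff_isMaximal _).mpr hN⟩
        have hQ''K : Q'' ∈ K := fun w hw =>
          hPN (hP (Submodule.mem_colon_singleton.mpr (by simpa using hw)))
        have heN : algebraMap A B e ∈ N := (heV (θ Q'')).mpr fun h => hVK h ⟨Q'', hQ''K, rfl⟩
        refine (hPp.mem_or_mem (x := algebraMap A B e) (y := 1 - algebraMap A B e) ?_).resolve_right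
          fun h => hN.ne_top ((Ideal.eq_top_iff_one _).mpr ?_)
        · rw [mul_sub, mul_one, ← map_mul, hee.eq, sub_self]
          exact P.zero_mem
        · have := N.add_mem (hPN h) heN
          rwa [sub_add_cancel] at this
      obtain ⟨n, hn⟩ := hrad
      rcases Nat.eq_zero_or_pos n with rfl | hpos
      · refine hne' ?_
        have : (1 : B) * z = 0 := by simpa [Submodule.mem_colon_singleton] using hn
        rw [one_mul] at this
        rw [this, mul_zero]
      · obtain ⟨k, rfl⟩ : ∃ k, n = k + 1 := ⟨n - 1, by omega⟩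
        refine hne' ?_
        rw [← map_pow, hee.pow_succ_eq] at hn
        simpa [Submodule.mem_colon_singleton] using hn
    have hecJ : e * c ∈ J := ⟨e * a, by
      rw [map_mul, map_mul]
      linear_combination -hez⟩
    rcases hm.isPrime.mem_or_mem (hle hecJ) with h | h
    · exact heQ ((hmQ e).mp h)
    · exact hc ((hmQ c).mp h)

end Bijective

/-! The map from `AW.Ring h` to a ring with w-local spectrum. -/

section Map

variable {A : Type u} [CommRing A] [Algebra A B] {T : Type u} [TopologicalSpace T]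
  [CompactSpace T] [T2Space T] [TotallyDisconnectedSpace T] {h : T → PrimeSpectrum A}

/-- `b` represents the locally constant function `f` pulled back along `κ`. -/
def Rep (κ : ClPts B → T) (f : LocallyConstant T A) (b : B) : Prop :=
  ∀ Q : ClPts B, ∃ s ∉ Q.1.asIdeal, s * (b - algebraMap A B (f (κ Q))) = 0

variable {κ : ClPts B → T}

omit [CompactSpace T] [T2Space T] [TotallyDisconnectedSpace T] in
lemma rep_unique {f : LocallyConstant T A} {b b' : B} (hb : Rep κ f b) (hb' : Rep κ f b') :
    b = b' := by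
  refine eq_of_forall_local fun Q => ?_
  obtain ⟨s, hs, e⟩ := hb Q
  obtain ⟨s', hs', e'⟩ := hb' Q
  exact ⟨s * s', Q.1.2.mul_notMem hs hs', by linear_combination s' * e - s * e'⟩

omit [CompactSpace T] [T2Space T] [TotallyDisconnectedSpace T] in
lemma one_notMem (Q : ClPts B) : (1 : B) ∉ Q.1.asIdeal :=
  fun h => Q.1.2.ne_top ((Ideal.eq_top_iff_one _).mpr h)

variable (hB : ProEtW.IsWLocal (PrimeSpectrum B)) (hκ : Continuous κ)
include hB hκ

omit [T2Space T] [TotallyDisconnectedSpace T] in
lemma exists_rep (f : LocallyConstant T A) : ∃ b, Rep κ f b := by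
  classical
  have hfin : (Set.range f).Finite := f.range_finite
  choose e he heU using fun r : A =>
    exists_idempotent hB ((f.isLocallyConstant.isClopen_fiber r).preimage hκ)
  refine ⟨∑ r ∈ hfin.toFinset, algebraMap A B r * e r, fun Q => ?_⟩
  -- near `Q` only the summand of `f (κ Q)` survives
  refine ⟨∏ r ∈ hfin.toFinset, if r = f (κ Q) then e r else 1 - e r, ?_, ?_⟩
  · refine fun h => ?_
    obtain ⟨r, -, hr⟩ := Ideal.IsPrime.prod_mem_iff.mp h
    split_ifs at hr with hrQ
    · exact (heU r Q).mp hr (by simp [hrQ])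
    · refine one_notMem Q ?_
      have : e r ∈ Q.1.asIdeal := (heU r Q).mpr fun h' => hrQ (by simpa using h'.symm)
      simpa using Q.1.asIdeal.add_mem hr this
  · rw [mul_sub, Finset.mul_sum, Finset.sum_eq_single (f (κ Q))]
    · rw [← Finset.mul_prod_erase _ _ (hfin.mem_toFinset.mpr ⟨κ Q, rfl⟩), if_pos rfl]
      linear_combination (algebraMap A B (f (κ Q)) *
        ∏ r ∈ hfin.toFinset.erase (f (κ Q)), if r = f (κ Q) then e r else 1 - e r) *
          (he (f (κ Q))).eq
    · intro r hr hrQ
      rw [← Finset.mul_prod_erase _ _ hr, if_neg hrQ]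
      linear_combination (-algebraMap A B r *
        ∏ r' ∈ hfin.toFinset.erase r, if r' = f (κ Q) then e r' else 1 - e r') * (he r).eq
    · exact fun h => (h (hfin.mem_toFinset.mpr ⟨κ Q, rfl⟩)).elim

/-- The map on locally constant functions. -/
noncomputable def lcMap : LocallyConstant T A →ₐ[A] B where
  toFun f := (exists_rep hB hκ f).choose
  map_one' := rep_unique (exists_rep hB hκ 1).choose_spec fun Q =>
    ⟨1, one_notMem Q, by simp⟩
  map_mul' f g := rep_unique (exists_rep hB hκ (f * g)).choose_spec fun Q => by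
    obtain ⟨s, hs, es⟩ := (exists_rep hB hκ f).choose_spec Q
    obtain ⟨t, ht, et⟩ := (exists_rep hB hκ g).choose_spec Q
    refine ⟨s * t, Q.1.2.mul_notMem hs ht, ?_⟩
    rw [LocallyConstant.mul_apply, map_mul]
    linear_combination (t * (exists_rep hB hκ g).choose) * es + (s * algebraMap A B (f (κ Q))) * et
  map_zero' := rep_unique (exists_rep hB hκ 0).choose_spec fun Q =>
    ⟨1, one_notMem Q, by simp⟩
  map_add' f g := rep_unique (exists_rep hB hκ (f + g)).choose_spec fun Q => by
    obtain ⟨s, hs, es⟩ := (exists_rep hB hκ f).choose_spec Q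
    obtain ⟨t, ht, et⟩ := (exists_rep hB hκ g).choose_spec Q
    refine ⟨s * t, Q.1.2.mul_notMem hs ht, ?_⟩
    rw [LocallyConstant.add_apply, map_add]
    linear_combination t * es + s * et
  commutes' a := rep_unique (exists_rep hB hκ (algebraMap A _ a)).choose_spec fun Q =>
    ⟨1, one_notMem Q, by rw [LCSpec.algebraMap_apply']; simp⟩

omit [T2Space T] [TotallyDisconnectedSpace T] in
lemma rep_lcMap (f : LocallyConstant T A) : Rep κ f (lcMap hB hκ f) :=
  (exists_rep hB hκ f).choose_spec

omit [T2Space T] [TotallyDisconnectedSpace T] in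
lemma lcMap_mem_iff (f : LocallyConstant T A) (Q : ClPts B) :
    lcMap hB hκ f ∈ Q.1.asIdeal ↔ algebraMap A B (f (κ Q)) ∈ Q.1.asIdeal := by
  obtain ⟨s, hs, e⟩ := rep_lcMap hB hκ f Q
  have hm : lcMap hB hκ f - algebraMap A B (f (κ Q)) ∈ Q.1.asIdeal :=
    (Q.1.2.mem_or_mem (e ▸ Q.1.asIdeal.zero_mem)).resolve_left hs
  exact ⟨fun h => (Q.1.asIdeal.sub_mem_iff_right h).mp hm,
    fun h => (Q.1.asIdeal.sub_mem_iff_left h).mp hm⟩

variable (hκh : ∀ Q : ClPts B, h (κ Q) = PrimeSpectrum.comap (algebraMap A B) Q.1)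
include hκh

lemma isUnit_lcMap (f : LocallyConstant T A) (hf : f ∈ LCSpec.sub (AW.graph h)) :
    IsUnit (lcMap hB hκ f) := by
  by_contra hnu
  obtain ⟨m, hm, hfm⟩ := exists_max_ideal_of_mem_nonunits hnu
  let Q : ClPts B := ⟨⟨m, hm.isPrime⟩, (PrimeSpectrum.isClosed_singleton_iff_isMaximal _).mpr hm⟩
  have := (lcMap_mem_iff hB hκ f Q).mp hfm
  refine hf (h (κ Q), κ Q) ⟨κ Q, rfl⟩ ?_
  rw [hκh Q]
  exact this

/-- The map `AW.Ring h → B`. -/
noncomputable def toWLocal : AW.Ring h →ₐ[A] B :=
  IsLocalization.liftAlgHom (M := LCSpec.sub (AW.graph h)) (f := lcMap hB hκ)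
    (fun y => isUnit_lcMap hB hκ hκh y.1 y.2)

lemma toWLocal_apply (f : LocallyConstant T A) :
    toWLocal hB hκ hκh (algebraMap _ (AW.Ring h) f) = lcMap hB hκ f := by
  simp [toWLocal]

lemma comap_toWLocal (Q : ClPts B) :
    PrimeSpectrum.comap (toWLocal hB hκ hκh).toRingHom Q.1 = AW.closedPt (κ Q) := by
  refine (LCSpec.isEmbedding_toProd (AW.graph h)).injective ?_
  rw [AW.toProd_closedPt]
  refine LCSpec.pt_injective ?_
  rw [LCSpec.pt_toProd, ← PrimeSpectrum.comap_comp_apply]
  refine PrimeSpectrum.ext (Ideal.ext fun f => ?_)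
  rw [LCSpec.mem_pt, hκh Q, PrimeSpectrum.comap_asIdeal, Ideal.mem_comap]
  simp only [RingHom.comp_apply, PrimeSpectrum.comap_asIdeal, Ideal.mem_comap,
    AlgHom.toRingHom_eq_coe, RingHom.coe_coe, toWLocal_apply]
  exact lcMap_mem_iff hB hκ f Q

/-- When `κ` is bijective and `A → B` identifies local rings, `AW.Ring h ≅ B`. -/
theorem bijective_toWLocal (hh : AW.ConsContinuous h) (hκbij : Function.Bijective κ)
    (hid : ∀ Q : ClPts B, Ident.IdentAt A Q.1.asIdeal) :
    Function.Bijective (toWLocal hB hκ hκh) := by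
  let φ := toWLocal hB hκ hκh
  let alg : Algebra (AW.Ring h) B := φ.toRingHom.toAlgebra
  have : IsScalarTower A (AW.Ring h) B := .of_algebraMap_eq fun a => (φ.commutes a).symm
  have hcl : ∀ Q : ClPts B,
      IsClosed ({PrimeSpectrum.comap (algebraMap (AW.Ring h) B) Q.1} : Set _) := fun Q => by
    rw [show PrimeSpectrum.comap (algebraMap (AW.Ring h) B) Q.1 = AW.closedPt (κ Q) from
      comap_toWLocal hB hκ hκh Q]
    exact AW.isClosed_closedPt hh _
  refine bijective_of_identAt (A := AW.Ring h) (AW.isWLocal hh) hB hcl ⟨?_, ?_⟩ fun Q => ?_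
  · intro Q Q' hQ
    refine hκbij.1 ?_
    have h1 : AW.closedPt (h := h) (κ Q) = AW.closedPt (κ Q') := by
      rw [← comap_toWLocal hB hκ hκh Q, ← comap_toWLocal hB hκ hκh Q']
      exact congr_arg Subtype.val hQ
    have h2 := congr_arg (LCSpec.toProd (AW.graph h)) h1
    rw [AW.toProd_closedPt, AW.toProd_closedPt] at h2
    exact congr_arg Prod.snd h2
  · rintro ⟨P, hP⟩
    obtain ⟨Q, hQ⟩ := hκbij.2 (LCSpec.toProd (AW.graph h) P).2
    refine ⟨Q, Subtype.ext ?_⟩
    refine (comap_toWLocal hB hκ hκh Q).trans ((LCSpec.isEmbedding_toProd (AW.graph h)).injective ?_)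
    rw [AW.toProd_closedPt, hQ]
    exact Prod.ext ((AW.isClosed_singleton_iff hh P).mp hP).symm rfl
  · exact Ident.cancel (A := A) (B := AW.Ring h) (q := Q.1.asIdeal)
      (Ident.of_factorsZar (LCSpec.factorsZar_loc _) _) (hid Q)

end Map

/-- An algebra with w-local spectrum which identifies local rings is ind-Zariski. -/
theorem isIndZariski_of_identAt {A : Type u} [CommRing A] [Algebra A B]
    (hB : ProEtW.IsWLocal (PrimeSpectrum B))
    (hid : ∀ Q : ClPts B, Ident.IdentAt A Q.1.asIdeal) : EtPBC.IsIndZariski A B := by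
  obtain ⟨_, _, _⟩ := profinite_clPts hB
  let h : ClPts B → PrimeSpectrum A := fun Q => PrimeSpectrum.comap (algebraMap A B) Q.1
  exact Zariski.of_factors ((LCSpec.factorsZar_loc (AW.graph h)).of_algEquiv
    (AlgEquiv.ofBijective (toWLocal (h := h) (κ := id) hB continuous_id fun _ => rfl)
      (bijective_toWLocal hB continuous_id (fun _ => rfl) (consContinuous_comap hB)
        Function.bijective_id hid)))

end Groth.Agent.Lib.WLocal.Glue
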