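import Groth.Agent.Lib.IndEtale.Zariski
import Groth.Agent.Lib.WLocal.Basic
import Mathlib.Topology.LocallyConstant.Algebra

/-!
The spectrum of the ring of locally constant functions on a profinite space, and its localizations
attached to subsets `W` of `Spec A × T`.
-/

set_option autoImplicit false

universe u

namespace Groth.Agent.Lib.WLocal.LCSpec

open Set TopologicalSpace Topology
open Groth.Agent.Lib.IndEtale

variable (A : Type u) [CommRing A] (T : Type u) [TopologicalSpace T]

/-- The prime of `LocallyConstant T A` attached to a point of `Spec A × T`. -/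
noncomputable def pt (p : PrimeSpectrum A × T) : PrimeSpectrum (LocallyConstant T A) :=
  PrimeSpectrum.comap (LocallyConstant.evalRingHom p.2) p.1

variable {A T}

lemma mem_pt {p : PrimeSpectrum A × T} {f : LocallyConstant T A} :
    f ∈ (pt A T p).asIdeal ↔ f p.2 ∈ p.1.asIdeal := Iff.rfl

lemma algebraMap_apply' (a : A) (t : T) : algebraMap A (LocallyConstant T A) a t = a := rfl

lemma charFn_apply_of_mem {U : Set T} (hU : IsClopen U) {t : T} (ht : t ∈ U) :
    LocallyConstant.charFn A hU t = 1 := by
  rw [LocallyConstant.coe_charFn, Set.indicator_of_mem ht, Pi.one_apply]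

lemma charFn_apply_of_notMem {U : Set T} (hU : IsClopen U) {t : T} (ht : t ∉ U) :
    LocallyConstant.charFn A hU t = 0 := by
  rw [LocallyConstant.coe_charFn, Set.indicator_of_notMem ht]

lemma comap_pt (p : PrimeSpectrum A × T) :
    PrimeSpectrum.comap (algebraMap A (LocallyConstant T A)) (pt A T p) = p.1 := rfl

/-- `a` on `U`, `1` outside. -/
noncomputable def atOn {U : Set T} (hU : IsClopen U) (a : A) : LocallyConstant T A :=
  algebraMap A _ a * LocallyConstant.charFn A hU + LocallyConstant.charFn A hU.compl

lemma atOn_of_mem {U : Set T} (hU : IsClopen U) (a : A) {t : T} (ht : t ∈ U) :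
    atOn hU a t = a := by
  simp [atOn, algebraMap_apply', charFn_apply_of_mem hU ht,
    charFn_apply_of_notMem hU.compl (show t ∉ Uᶜ by simpa using ht)]

lemma atOn_of_notMem {U : Set T} (hU : IsClopen U) (a : A) {t : T} (ht : t ∉ U) :
    atOn hU a t = 1 := by
  simp [atOn, algebraMap_apply', charFn_apply_of_notMem hU ht,
    charFn_apply_of_mem hU.compl (show t ∈ Uᶜ from ht)]

variable [CompactSpace T] [T2Space T] [TotallyDisconnectedSpace T]

lemma pt_injective : Function.Injective (pt A T) := by
  rintro ⟨x, t⟩ ⟨y, s⟩ h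
  obtain rfl : x = y := by
    have := congr_arg (PrimeSpectrum.comap (algebraMap A (LocallyConstant T A))) h
    rwa [comap_pt, comap_pt] at this
  refine Prod.ext rfl ?_
  by_contra hts
  obtain ⟨U, hU, htU, hsU⟩ := exists_isClopen_of_totally_separated hts
  have h1 : LocallyConstant.charFn A hU ∈ (pt A T (x, s)).asIdeal := by
    rw [mem_pt, charFn_apply_of_notMem hU hsU]
    exact x.asIdeal.zero_mem
  rw [← h, mem_pt, charFn_apply_of_mem hU htU] at h1
  exact x.2.ne_top ((Ideal.eq_top_iff_one _).mpr h1)

omit [T2Space T] [TotallyDisconnectedSpace T] in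
lemma pt_surjective : Function.Surjective (pt A T) := by
  intro P
  have dich : ∀ {U : Set T} (hU : IsClopen U),
      LocallyConstant.charFn A hU ∈ P.asIdeal ↔
        LocallyConstant.charFn A hU.compl ∉ P.asIdeal := by
    intro U hU
    have hsum : LocallyConstant.charFn A hU + LocallyConstant.charFn A hU.compl = 1 := by
      ext t
      by_cases ht : t ∈ U
      · simp [charFn_apply_of_mem hU ht,
          charFn_apply_of_notMem hU.compl (show t ∉ Uᶜ by simpa using ht)]
      · simp [charFn_apply_of_notMem hU ht, charFn_apply_of_mem hU.compl (show t ∈ Uᶜ from ht)]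
    have hmul : LocallyConstant.charFn A hU * LocallyConstant.charFn A hU.compl = 0 := by
      ext t
      by_cases ht : t ∈ U
      · simp [charFn_apply_of_notMem hU.compl (show t ∉ Uᶜ by simpa using ht)]
      · simp [charFn_apply_of_notMem hU ht]
    refine ⟨fun h h' => P.2.ne_top ((Ideal.eq_top_iff_one _).mpr ?_), fun h => ?_⟩
    · rw [← hsum]
      exact P.asIdeal.add_mem h h'
    · exact (P.2.mem_or_mem (hmul ▸ P.asIdeal.zero_mem)).resolve_right h
  let ι := {U : Set T // ∃ hU : IsClopen U, LocallyConstant.charFn A hU ∉ P.asIdeal}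
  have hfip : ∀ u : Finset ι, ∃ hU : IsClopen (⋂ U ∈ u, U.1),
      LocallyConstant.charFn A hU ∉ P.asIdeal := by
    classical
    intro u
    induction u using Finset.induction_on with
    | empty =>
      refine ⟨by simp [isClopen_univ], fun h => P.2.ne_top ((Ideal.eq_top_iff_one _).mpr ?_)⟩
      convert h
      ext t
      rw [LocallyConstant.one_apply, charFn_apply_of_mem _ (by simp)]
    | insert a u _ ih =>
      obtain ⟨hU, hUP⟩ := ih
      obtain ⟨ha, haP⟩ := a.2
      refine ⟨by rw [Finset.set_biInter_insert]; exact ha.inter hU, fun h => ?_⟩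
      refine (P.2.mul_notMem haP hUP) ?_
      convert h
      ext t
      by_cases h1 : t ∈ a.1 <;> by_cases h2 : t ∈ ⋂ U ∈ u, U.1
      · rw [LocallyConstant.mul_apply, charFn_apply_of_mem ha h1, charFn_apply_of_mem hU h2,
          charFn_apply_of_mem _ (by rw [Finset.set_biInter_insert]; exact ⟨h1, h2⟩), one_mul]
      all_goals
        rw [LocallyConstant.mul_apply,
          charFn_apply_of_notMem (U := ⋂ U ∈ insert a u, U.1) _
            (by rw [Finset.set_biInter_insert]; exact fun h => by first | exact h1 h.1 | exact h2 h.2)]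
        first
          | rw [charFn_apply_of_notMem ha h1, zero_mul]
          | rw [charFn_apply_of_notMem hU h2, mul_zero]
  obtain ⟨t, ht⟩ : (univ ∩ ⋂ U : ι, U.1).Nonempty := by
    refine isCompact_univ.inter_iInter_nonempty _ (fun U => U.2.1.1) fun u => ?_
    rw [univ_inter]
    obtain ⟨hU, hUP⟩ := hfip u
    by_contra hemp
    refine hUP ?_
    convert P.asIdeal.zero_mem
    ext s
    rw [charFn_apply_of_notMem hU (fun hs => hemp ⟨s, hs⟩), LocallyConstant.zero_apply]
  refine ⟨(PrimeSpectrum.comap (algebraMap A _) P, t), PrimeSpectrum.ext (Ideal.ext fun f => ?_)⟩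
  rw [mem_pt, PrimeSpectrum.comap_asIdeal, Ideal.mem_comap]
  have hU : IsClopen {s | f s = f t} := f.isLocallyConstant.isClopen_fiber _
  have hUc : LocallyConstant.charFn A hU.compl ∈ P.asIdeal := by
    by_contra h
    exact (mem_iInter.mp ht.2 ⟨_, hU.compl, h⟩) rfl
  have hdiff : f - algebraMap A _ (f t) ∈ P.asIdeal := by
    have : f - algebraMap A _ (f t) =
        LocallyConstant.charFn A hU.compl * (f - algebraMap A _ (f t)) := by
      ext s
      rw [LocallyConstant.mul_apply, LocallyConstant.sub_apply, algebraMap_apply']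
      by_cases hs : f s = f t
      · simp [hs]
      · rw [charFn_apply_of_mem hU.compl (show s ∈ {s | f s = f t}ᶜ from hs), one_mul]
    rw [this]
    exact P.asIdeal.mul_mem_right _ hUc
  exact ⟨fun h => (P.asIdeal.sub_mem_iff_left h).mp hdiff, fun h => by
    simpa using P.asIdeal.sub_mem h hdiff⟩

lemma continuous_pt : Continuous (pt A T) := by
  refine PrimeSpectrum.isTopologicalBasis_basic_opens.continuous_iff.mpr ?_
  rintro _ ⟨f, rfl⟩
  have : pt A T ⁻¹' (PrimeSpectrum.basicOpen f) =
      ⋃ a : A, (PrimeSpectrum.basicOpen a : Set (PrimeSpectrum A)) ×ˢ {t | f t = a} := by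
    ext p
    simp [mem_pt]
  rw [this]
  exact isOpen_iUnion fun a =>
    (PrimeSpectrum.basicOpen a).2.prod (f.isLocallyConstant.isClopen_fiber a).2

lemma isOpenMap_pt : IsOpenMap (pt A T) := by
  refine IsTopologicalBasis.isOpenMap_iff
    (PrimeSpectrum.isTopologicalBasis_basic_opens.prod (isTopologicalBasis_isClopen (X := T))) |>.mpr ?_
  rintro _ ⟨_, ⟨a, rfl⟩, U, hU, rfl⟩
  have : pt A T '' ((PrimeSpectrum.basicOpen a : Set (PrimeSpectrum A)) ×ˢ U) =
      PrimeSpectrum.basicOpen (algebraMap A _ a * LocallyConstant.charFn A hU) := by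
    ext P
    obtain ⟨p, rfl⟩ := pt_surjective P
    rw [pt_injective.mem_set_image, SetLike.mem_coe, PrimeSpectrum.mem_basicOpen, mem_pt,
      LocallyConstant.mul_apply, algebraMap_apply', mem_prod]
    by_cases h : p.2 ∈ U
    · simp [h, charFn_apply_of_mem hU h]
    · simp [h, charFn_apply_of_notMem hU h]
  rw [this]
  exact (PrimeSpectrum.basicOpen _).2

lemma isHomeomorph_pt : IsHomeomorph (pt A T) :=
  ⟨continuous_pt, isOpenMap_pt, pt_injective, pt_surjective⟩

/-- `Spec A × T ≅ Spec (LocallyConstant T A)`. -/
noncomputable def homeo : PrimeSpectrum A × T ≃ₜ PrimeSpectrum (LocallyConstant T A) :=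
  isHomeomorph_pt.homeomorph

/-! Localizations attached to a subset of `Spec A × T`. -/

variable (W : Set (PrimeSpectrum A × T))

/-- The functions invertible along `W`. -/
def sub : Submonoid (LocallyConstant T A) where
  carrier := {f | ∀ p ∈ W, f p.2 ∉ p.1.asIdeal}
  one_mem' p _ h := p.1.2.ne_top ((Ideal.eq_top_iff_one _).mpr h)
  mul_mem' {a b} ha hb p hp h := (p.1.2.mem_or_mem h).elim (ha p hp) (hb p hp)

omit [CompactSpace T] [T2Space T] [TotallyDisconnectedSpace T] in
lemma mem_sub {f : LocallyConstant T A} : f ∈ sub W ↔ ∀ p ∈ W, f p.2 ∉ p.1.asIdeal := Iff.rfl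

/-- The localization of `LocallyConstant T A` along `W`. -/
abbrev Loc : Type u := Localization (sub W)

/-- The map `Spec (Loc W) → Spec A × T`. -/
noncomputable def toProd (P : PrimeSpectrum (Loc W)) : PrimeSpectrum A × T :=
  homeo.symm (PrimeSpectrum.comap (algebraMap (LocallyConstant T A) (Loc W)) P)

lemma isEmbedding_toProd : IsEmbedding (toProd W) :=
  homeo.symm.isEmbedding.comp (PrimeSpectrum.localization_comap_isEmbedding (Loc W) (sub W))

lemma pt_toProd (P : PrimeSpectrum (Loc W)) :
    pt A T (toProd W P) = PrimeSpectrum.comap (algebraMap _ (Loc W)) P :=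
  (homeo (A := A) (T := T)).apply_symm_apply _

lemma fst_toProd (P : PrimeSpectrum (Loc W)) :
    (toProd W P).1 = PrimeSpectrum.comap (algebraMap A (Loc W)) P := by
  rw [← comap_pt (toProd W P), pt_toProd, ← PrimeSpectrum.comap_comp_apply,
    ← IsScalarTower.algebraMap_eq]

lemma range_toProd :
    range (toProd W) = {p | ∀ f ∈ sub W, f p.2 ∉ p.1.asIdeal} := by
  ext p
  constructor
  · rintro ⟨P, rfl⟩ f hf hfP
    have : pt A T (toProd W P) ∈ range (PrimeSpectrum.comap (algebraMap _ (Loc W))) :=
      ⟨P, (pt_toProd W P).symm⟩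
    rw [PrimeSpectrum.localization_comap_range (Loc W) (sub W)] at this
    exact Set.disjoint_left.mp this hf hfP
  · intro hp
    have : pt A T p ∈ range (PrimeSpectrum.comap (algebraMap _ (Loc W))) := by
      rw [PrimeSpectrum.localization_comap_range (Loc W) (sub W)]
      exact Set.disjoint_left.mpr fun f hf hfP => hp f hf hfP
    obtain ⟨P, hP⟩ := this
    exact ⟨P, pt_injective ((pt_toProd W P).trans hP)⟩

lemma subset_range_toProd : W ⊆ range (toProd W) := by
  rw [range_toProd]
  exact fun p hp f hf => hf p hp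

omit [T2Space T] [TotallyDisconnectedSpace T] in
theorem factorsZar_lc : Zariski.FactorsZar A (LocallyConstant T A) := by
  classical
  intro C _ _ hC g
  obtain ⟨s, hs⟩ := (inferInstance : Algebra.FiniteType A C).out
  let F : T → (s → A) := fun t i => g i t
  have hF : IsLocallyConstant F :=
    IsLocallyConstant.iff_eventually_eq _ |>.mpr fun t => by
      have : ∀ᶠ r in 𝓝 t, ∀ i : s, g i r = g i t :=
        Filter.eventually_all.mpr fun i => (g i).isLocallyConstant.eventually_eq t
      filter_upwards [this] with r hr using funext hr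
  have : Finite (range F) := hF.range_finite.to_subtype
  have hsel : ∀ r : range F, ∃ t, F t = r := fun r => r.2
  choose sel hsel using hsel
  let F' : LocallyConstant T (range F) :=
    ⟨fun t => ⟨F t, t, rfl⟩, fun U => by
      convert hF ((Subtype.val : range F → _) '' U) using 1
      ext t
      simp⟩
  let v : (range F → A) →ₐ[A] LocallyConstant T A :=
    { toFun := fun φ => F'.map φ
      map_one' := rfl
      map_mul' := fun _ _ => rfl
      map_zero' := rfl
      map_add' := fun _ _ => rfl
      commutes' := fun _ => rfl }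
  let u : C →ₐ[A] (range F → A) :=
    AlgHom.ofLinearMap
      { toFun := fun c r => g c (sel r)
        map_add' := fun x y => by ext r; simp
        map_smul' := fun a x => by ext r; simp }
      (by ext r; simp) (fun x y => by ext r; simp)
  refine ⟨range F → A, inferInstance, inferInstance,
    (Algebra.IsLocalIso.pi_of_finite A fun _ : range F => A), u, v, ?_⟩
  refine AlgHom.ext_of_adjoin_eq_top hs fun x hx => ?_
  refine LocallyConstant.ext fun t => ?_
  exact congr_fun (hsel ⟨F t, t, rfl⟩) ⟨x, hx⟩

omit [T2Space T] [TotallyDisconnectedSpace T] in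
theorem factorsZar_loc : Zariski.FactorsZar A (Loc W) :=
  Zariski.factors_localization (Zariski.impliesFP A) Zariski.stableAway_zar factorsZar_lc
    (sub W) (Loc W)

end Groth.Agent.Lib.WLocal.LCSpec
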