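import Groth.Agent.Lib.WLocal.Glue
import Groth.Agent.Lib.WLocal.Cover

/-!
The relative w-localization over a w-local base.
-/

set_option autoImplicit false

universe u

open Topology Set

namespace Groth.Agent.Lib.WLocal.Rel

open IndEtale

theorem identAt_quotient {B C : Type u} [CommRing B] [CommRing C] [Algebra B C] (J : Ideal B)
    (Q : Ideal (C ⧸ J.map (algebraMap B C))) [Q.IsPrime]
    (h : Ident.IdentAt B (Q.comap (Ideal.Quotient.mk _))) :
    @Ident.IdentAt (B ⧸ J) _ _ _
      (Ideal.quotientMap (J.map (algebraMap B C)) (algebraMap B C) Ideal.le_comap_map).toAlgebra Q := by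
  letI := (Ideal.quotientMap (J.map (algebraMap B C)) (algebraMap B C) Ideal.le_comap_map).toAlgebra
  have hmk : ∀ b : B, algebraMap (B ⧸ J) (C ⧸ J.map (algebraMap B C)) (Ideal.Quotient.mk J b) =
      Ideal.Quotient.mk _ (algebraMap B C b) := fun b => Ideal.quotientMap_mk
  set P := Q.comap (Ideal.Quotient.mk (J.map (algebraMap B C)))
  have hP : P.IsPrime := inferInstance
  let M : Ideal C :=
    { carrier := {x | ∃ s, s ∉ P ∧ ∃ d, algebraMap B C d ∉ P ∧ ∃ j ∈ J,
        s * (algebraMap B C d * x - algebraMap B C j) = 0}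
      zero_mem' := ⟨1, hP.one_notMem, 1, by simpa using hP.one_notMem, 0, J.zero_mem, by simp⟩
      add_mem' := by
        rintro x y ⟨s, hs, d, hd, j, hj, e⟩ ⟨s', hs', d', hd', j', hj', e'⟩
        refine ⟨s * s', hP.mul_notMem hs hs', d * d', by rw [map_mul]; exact hP.mul_notMem hd hd',
          d' * j + d * j', J.add_mem (J.mul_mem_left _ hj) (J.mul_mem_left _ hj'), ?_⟩
        simp only [map_mul, map_add]
        linear_combination (s' * algebraMap B C d') * e + (s * algebraMap B C d) * e'
      smul_mem' := by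
        rintro c x ⟨s, hs, d, hd, j, hj, e⟩
        obtain ⟨a, dc, hdc, sc, hsc, ec⟩ := h.2 c
        refine ⟨s * sc, hP.mul_notMem hs hsc, d * dc, by rw [map_mul]; exact hP.mul_notMem hd hdc,
          a * j, J.mul_mem_left _ hj, ?_⟩
        simp only [map_mul, smul_eq_mul]
        linear_combination (sc * algebraMap B C dc * c) * e + (s * algebraMap B C j) * ec }
  have hM : J.map (algebraMap B C) ≤ M := Ideal.map_le_iff_le_comap.mpr fun j hj =>
    ⟨1, hP.one_notMem, 1, by simpa using hP.one_notMem, j, hj, by simp⟩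
  constructor
  · intro a ⟨t, ht, hta⟩
    obtain ⟨b, rfl⟩ := Ideal.Quotient.mk_surjective a
    obtain ⟨t, rfl⟩ := Ideal.Quotient.mk_surjective t
    rw [hmk, ← map_mul, Ideal.Quotient.eq_zero_iff_mem] at hta
    obtain ⟨s, hs, d, hd, j, hj, e⟩ := hM hta
    obtain ⟨c, hc, hcb⟩ : ∃ c, algebraMap B C c ∉ P ∧ c * b ∈ J := by
      obtain ⟨a', d', hd', u, hu, eu⟩ := h.2 t
      have ha' : algebraMap B C a' ∉ P := fun hmem => by
        refine hP.mul_notMem hu (hP.mul_notMem hd' ht) ?_
        rw [show u * (algebraMap B C d' * t) = u * algebraMap B C a' by linear_combination eu]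
        exact P.mul_mem_left _ hmem
      obtain ⟨c, hc, e0⟩ := h.1 (d * a' * b - d' * j) ⟨s * u, hP.mul_notMem hs hu, by
        simp only [map_sub, map_mul]
        linear_combination (u * algebraMap B C d') * e - (s * algebraMap B C d * algebraMap B C b) * eu⟩
      refine ⟨c * d * a', by simp only [map_mul]; exact hP.mul_notMem (hP.mul_notMem hc hd) ha', ?_⟩
      rw [show c * d * a' * b = c * d' * j by linear_combination e0]
      exact J.mul_mem_left _ hj
    refine ⟨Ideal.Quotient.mk J c, by rw [hmk]; exact hc, ?_⟩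
    rw [← map_mul, Ideal.Quotient.eq_zero_iff_mem]
    exact hcb
  · intro y
    obtain ⟨x, rfl⟩ := Ideal.Quotient.mk_surjective y
    obtain ⟨a, c, hc, s, hs, e⟩ := h.2 x
    refine ⟨Ideal.Quotient.mk J a, Ideal.Quotient.mk J c, by rw [hmk]; exact hc,
      Ideal.Quotient.mk _ s, hs, ?_⟩
    rw [hmk, hmk, ← map_mul, ← map_sub, ← map_mul, e, map_zero]

variable {A B : Type u} [CommRing A] [CommRing B] [Algebra A B]

/-- Points over closed points are closed, if residue extensions are algebraic. -/
theorem isClosed_singleton_of_comap (h : ProEtW.AlgebraicResidueExtensions A B)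
    (q : PrimeSpectrum B) (hq : IsClosed ({PrimeSpectrum.comap (algebraMap A B) q} : Set _)) :
    IsClosed ({q} : Set (PrimeSpectrum B)) := by
  rw [PrimeSpectrum.isClosed_singleton_iff_isMaximal] at hq ⊢
  have : Algebra.IsAlgebraic (A ⧸ q.asIdeal.comap (algebraMap A B)) (B ⧸ q.asIdeal) := h q.asIdeal
  have hK : (q.asIdeal.comap (algebraMap A B)).IsMaximal := hq
  letI := Ideal.Quotient.field (q.asIdeal.comap (algebraMap A B))
  have : Algebra.IsIntegral (A ⧸ q.asIdeal.comap (algebraMap A B)) (B ⧸ q.asIdeal) :=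
    Algebra.isAlgebraic_iff_isIntegral.mp ‹_›
  exact Ideal.Quotient.maximal_of_isField _
    (isField_of_isIntegral_of_isField' (R := A ⧸ q.asIdeal.comap (algebraMap A B))
      (Field.toIsField _))

lemma bijective_quotient {C : Type u} [CommRing C] [Algebra B C] (J : Ideal B)
    (hcl : PrimeSpectrum.zeroLocus (R := B) J ⊆ ProEtW.closedPoints (PrimeSpectrum B))
    (hC : ProEtW.IsWLocal (PrimeSpectrum C)) (hZ : Zariski.FactorsZar B C)
    (hzero : ∀ P : PrimeSpectrum C, IsClosed ({P} : Set _) ↔
        PrimeSpectrum.comap (algebraMap B C) P ∈ PrimeSpectrum.zeroLocus (R := B) J)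
    (hinj : ∀ P P' : PrimeSpectrum C, IsClosed ({P} : Set _) → IsClosed ({P'} : Set _) →
      PrimeSpectrum.comap (algebraMap B C) P = PrimeSpectrum.comap (algebraMap B C) P' → P = P')
    (hsurj : ∀ q ∈ PrimeSpectrum.zeroLocus (R := B) J, ∃ P : PrimeSpectrum C,
      IsClosed ({P} : Set _) ∧ PrimeSpectrum.comap (algebraMap B C) P = q) :
    Function.Bijective (Ideal.quotientMap (J.map (algebraMap B C)) (algebraMap B C)
      Ideal.le_comap_map) := by
  letI : Algebra (B ⧸ J) (C ⧸ J.map (algebraMap B C)) :=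
    RingHom.toAlgebra (R := B ⧸ J) (S := C ⧸ J.map (algebraMap B C))
      (Ideal.quotientMap (J.map (algebraMap B C)) (algebraMap B C) Ideal.le_comap_map)
  let π : C →+* C ⧸ J.map (algebraMap B C) := Ideal.Quotient.mk _
  let ι : PrimeSpectrum (B ⧸ J) → PrimeSpectrum B := PrimeSpectrum.comap (Ideal.Quotient.mk J)
  have hι : IsClosedEmbedding ι :=
    PrimeSpectrum.isClosedEmbedding_comap_of_surjective (B ⧸ J) (Ideal.Quotient.mk J)
      Ideal.Quotient.mk_surjective
  have hπe : IsClosedEmbedding (PrimeSpectrum.comap π) :=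
    PrimeSpectrum.isClosedEmbedding_comap_of_surjective _ π Ideal.Quotient.mk_surjective
  have hιr : range ι = PrimeSpectrum.zeroLocus (R := B) J := by
    rw [range_comap_of_surjective _ _ Ideal.Quotient.mk_surjective, Ideal.mk_ker]
  have hTcl : ∀ t : PrimeSpectrum (B ⧸ J), IsClosed ({t} : Set _) := fun t => by
    rw [hι.isClosed_iff_image_isClosed, image_singleton]
    exact hcl (hιr ▸ mem_range_self t)
  haveI : T1Space (PrimeSpectrum (B ⧸ J)) := ⟨hTcl⟩
  have hTw : ProEtW.IsWLocal (PrimeSpectrum (B ⧸ J)) :=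
    ⟨inferInstance, by simp [isClosed_singleton], fun x => ⟨x, ⟨hTcl x, specializes_rfl⟩,
      fun y hy => (specializes_iff_eq.mp hy.2).symm⟩⟩
  have hsq : ∀ Q, ι (PrimeSpectrum.comap (algebraMap (B ⧸ J) (C ⧸ J.map (algebraMap B C))) Q) =
      PrimeSpectrum.comap (algebraMap B C) (PrimeSpectrum.comap π Q) := fun Q => by
    change PrimeSpectrum.comap (Ideal.Quotient.mk J) _ = _
    rw [← PrimeSpectrum.comap_comp_apply, ← PrimeSpectrum.comap_comp_apply]
    congr 1
  have hclR : ∀ Q, IsClosed ({PrimeSpectrum.comap π Q} : Set (PrimeSpectrum C)) := fun Q => by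
    rw [hzero, ← hsq, ← hιr]
    exact mem_range_self _
  refine Glue.bijective_of_identAt hTw
    (Cover.isWLocal_of_surjective π Ideal.Quotient.mk_surjective hC) (fun Q => hTcl _) ⟨?_, ?_⟩
    fun Q => identAt_quotient J _ (Ident.of_factorsZar hZ _)
  · rintro ⟨Q, hQ⟩ ⟨Q', hQ'⟩ e
    have e' := congrArg (fun x => ι x.1) e
    simp only [hsq] at e'
    exact Subtype.ext (hπe.injective (hinj _ _ (hclR Q) (hclR Q') e'))
  · rintro ⟨t, ht⟩
    obtain ⟨P, hP, hPt⟩ := hsurj (ι t) (hιr ▸ mem_range_self t)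
    obtain ⟨Q, rfl⟩ : P ∈ range (PrimeSpectrum.comap π) := by
      rw [range_comap_of_surjective _ _ Ideal.Quotient.mk_surjective, Ideal.mk_ker,
        PrimeSpectrum.mem_zeroLocus, SetLike.coe_subset_coe, Ideal.map_le_iff_le_comap]
      exact (hzero P).mp hP
    refine ⟨⟨Q, ?_⟩, Subtype.ext (hι.injective ?_)⟩
    · rw [hπe.isClosed_iff_image_isClosed, image_singleton]
      exact hP
    · change ι (PrimeSpectrum.comap _ Q) = ι t
      rw [hsq, hPt]

/-- The localization of `B` along a closed set all whose points are closed. -/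
theorem core (J : Ideal B)
    (hcl : PrimeSpectrum.zeroLocus (R := B) J ⊆ ProEtW.closedPoints (PrimeSpectrum B)) :
    ∃ (C : Type u) (_ : CommRing C) (_ : Algebra B C), EtPBC.IsIndZariski B C ∧
      Function.Bijective (Ideal.quotientMap (J.map (algebraMap B C)) (algebraMap B C)
        Ideal.le_comap_map) ∧
      ProEtW.IsWLocal (PrimeSpectrum C) ∧
      (∀ P : PrimeSpectrum C, IsClosed ({P} : Set _) ↔
        PrimeSpectrum.comap (algebraMap B C) P ∈ PrimeSpectrum.zeroLocus (R := B) J) ∧
      ∀ q ∈ PrimeSpectrum.zeroLocus (R := B) J, ∃ P : PrimeSpectrum C,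
        IsClosed ({P} : Set _) ∧ PrimeSpectrum.comap (algebraMap B C) P = q := by
  let T := PrimeSpectrum (B ⧸ J)
  let ι : T → PrimeSpectrum B := PrimeSpectrum.comap (Ideal.Quotient.mk J)
  have hι : IsClosedEmbedding ι :=
    PrimeSpectrum.isClosedEmbedding_comap_of_surjective (B ⧸ J) (Ideal.Quotient.mk J)
      Ideal.Quotient.mk_surjective
  have hιr : range ι = PrimeSpectrum.zeroLocus (R := B) J := by
    rw [range_comap_of_surjective _ _ Ideal.Quotient.mk_surjective, Ideal.mk_ker]
  have hT1 : T1Space T := ⟨fun t => by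
    rw [hι.isClosed_iff_image_isClosed, image_singleton]
    exact hcl (hιr ▸ mem_range_self t)⟩
  haveI : TotallySeparatedSpace T := Components.totallySeparatedSpace_of_t1 (X := T)
  have hcons : AW.ConsContinuous ι := fun b => by
    have : {t : T | b ∈ (ι t).asIdeal} =
        (PrimeSpectrum.basicOpen (Ideal.Quotient.mk J b) : Set T)ᶜ := by
      ext t
      rw [PrimeSpectrum.basicOpen_eq_zeroLocus_compl, compl_compl]
      exact (Set.singleton_subset_iff (s := (t.asIdeal : Set (B ⧸ J)))).symm
    rw [this, isClopen_compl_iff]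
    exact ⟨(PrimeSpectrum.isCompact_basicOpen _).isClosed, (PrimeSpectrum.basicOpen _).2⟩
  let C := AW.Ring ι
  have hzero : ∀ P : PrimeSpectrum C,
      IsClosed ({P} : Set _) ↔ PrimeSpectrum.comap (algebraMap B C) P ∈
        PrimeSpectrum.zeroLocus (R := B) J := by
    intro P
    constructor
    · intro hP
      rw [← Basic.eq_of_specializes_of_isClosed hP (AW.specializes_closedPt hcons P) ,
        AW.comap_closedPt, ← hιr]
      exact mem_range_self _
    · intro hP
      have hs := (AW.specializes_closedPt hcons P).map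
        (PrimeSpectrum.continuous_comap (algebraMap B C))
      rw [AW.comap_closedPt] at hs
      have heq := Basic.eq_of_specializes_of_isClosed (hcl hP) hs
      have : P = AW.closedPt (LCSpec.toProd (AW.graph ι) P).2 := by
        refine (LCSpec.isEmbedding_toProd (AW.graph ι)).injective ?_
        rw [AW.toProd_closedPt]
        refine Prod.ext ?_ rfl
        rw [LCSpec.fst_toProd]
        exact heq.symm
      rw [this]
      exact AW.isClosed_closedPt hcons _
  have key : ∀ P, IsClosed ({P} : Set (PrimeSpectrum C)) →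
      P = AW.closedPt (h := ι) (LCSpec.toProd (AW.graph ι) P).2 :=
    fun P hP => (Basic.eq_of_specializes_of_isClosed hP (AW.specializes_closedPt hcons P)).symm
  have hsurj : ∀ q ∈ PrimeSpectrum.zeroLocus (R := B) J, ∃ P : PrimeSpectrum C,
      IsClosed ({P} : Set _) ∧ PrimeSpectrum.comap (algebraMap B C) P = q := fun q hq => by
    rw [← hιr] at hq
    obtain ⟨t, rfl⟩ := hq
    exact ⟨AW.closedPt t, AW.isClosed_closedPt hcons t, AW.comap_closedPt t⟩
  refine ⟨C, inferInstance, inferInstance, AW.isIndZariski,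
    bijective_quotient J hcl (AW.isWLocal hcons) (Zariski.factors AW.isIndZariski) hzero
      (fun P P' hP hP' e => ?_) hsurj, AW.isWLocal hcons, hzero, hsurj⟩
  · rw [key P hP, key P' hP', AW.comap_closedPt, AW.comap_closedPt] at e
    rw [key P hP, key P' hP', hι.injective e]

theorem main (hA : ProEtW.IsWLocal (PrimeSpectrum A)) (I : Ideal A)
    (hI0 : PrimeSpectrum.zeroLocus (R := A) I = ProEtW.closedPoints (PrimeSpectrum A))
    (h : ProEtW.AlgebraicResidueExtensions A B) :
    PrimeSpectrum.zeroLocus (R := B) (I.map (algebraMap A B)) ⊆ ProEtW.closedPoints (PrimeSpectrum B) ∧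
    ∃ (C : Type u) (_ : CommRing C) (_ : Algebra B C) (_ : Algebra A C) (_ : IsScalarTower A B C),
      EtPBC.IsIndZariski B C ∧
      Function.Bijective (Ideal.quotientMap ((I.map (algebraMap A B)).map (algebraMap B C))
        (algebraMap B C) Ideal.le_comap_map) ∧
      ProEtW.IsWLocal (PrimeSpectrum C) ∧
      ProEtW.IsWLocalMap (PrimeSpectrum.comap (algebraMap A C)) ∧
      ProEtW.closedPoints (PrimeSpectrum C) =
        PrimeSpectrum.comap (algebraMap A C) ⁻¹' ProEtW.closedPoints (PrimeSpectrum A) := by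
  set J := I.map (algebraMap A B) with hJdef
  have hJ : ∀ q : PrimeSpectrum B, q ∈ PrimeSpectrum.zeroLocus (R := B) J ↔
      PrimeSpectrum.comap (algebraMap A B) q ∈ ProEtW.closedPoints (PrimeSpectrum A) := fun q => by
    rw [← hI0, PrimeSpectrum.mem_zeroLocus, PrimeSpectrum.mem_zeroLocus, SetLike.coe_subset_coe,
      SetLike.coe_subset_coe, hJdef, Ideal.map_le_iff_le_comap]
    rfl
  have hcl : PrimeSpectrum.zeroLocus (R := B) J ⊆ ProEtW.closedPoints (PrimeSpectrum B) :=
    fun q hq => isClosed_singleton_of_comap h q ((hJ q).mp hq)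
  refine ⟨hcl, ?_⟩
  obtain ⟨C, _, _, hZ, hbij, hwl, hzero, -⟩ := core J hcl
  letI : Algebra A C := ((algebraMap B C).comp (algebraMap A B)).toAlgebra
  haveI : IsScalarTower A B C := .of_algebraMap_eq fun _ => rfl
  have hcomap : ∀ P : PrimeSpectrum C, PrimeSpectrum.comap (algebraMap A C) P =
      PrimeSpectrum.comap (algebraMap A B) (PrimeSpectrum.comap (algebraMap B C) P) := fun P => by
    rw [← PrimeSpectrum.comap_comp_apply]; rfl
  refine ⟨C, inferInstance, inferInstance, inferInstance, inferInstance, hZ, hbij, hwl,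
    ⟨Cover.isSpectralMap_comap _, fun P hP => ?_⟩, ?_⟩
  · rw [hcomap]
    exact (hJ _).mp ((hzero P).mp hP)
  · ext P
    rw [Set.mem_preimage, hcomap, ← hJ, ← hzero]
    rfl

end Groth.Agent.Lib.WLocal.Rel
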