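import Groth.Agent.Lib.WLocal.Cons
import Groth.Agent.Lib.WLocal.Rel
import Groth.Agent.Lib.IndEtale.EtaleClosure
import Groth.Agent.Lib.IndEtale.AlgRes
import Groth.Agent.Lib.IndEtale.Zariski
import Groth.Agent.Lib.Henselian.StrictHenselization
import Groth.Agent.S0675
import Groth.Prelude.Def_EtBase

/-!
W-local strictly henselian covers, relative to a map with algebraic residue extensions.
-/

set_option autoImplicit false

universe u

open Topology Set TensorProduct

namespace Groth.Agent.Lib.WLocal.SHCover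

open IndEtale

lemma henselianLocalRing_of_ringEquiv {R S : Type u} [CommRing R] [CommRing S] (e : R ≃+* S)
    [HenselianLocalRing R] : HenselianLocalRing S := by
  have : IsLocalRing S := e.isLocalRing
  have hmem : ∀ x, x ∈ IsLocalRing.maximalIdeal S ↔ e.symm x ∈ IsLocalRing.maximalIdeal R := fun x => by
    simp only [IsLocalRing.mem_maximalIdeal, mem_nonunits_iff, isUnit_map_iff]
  refine ⟨fun f hf a₀ h₁ h₂ => ?_⟩
  have key : ∀ (p : Polynomial S) (x : S),
      (p.map e.symm.toRingHom).eval (e.symm x) = e.symm (p.eval x) := fun p x =>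
    Polynomial.eval_map_apply e.symm.toRingHom x
  obtain ⟨a, ha, ha'⟩ := HenselianLocalRing.is_henselian (f.map e.symm.toRingHom) (hf.map _)
    (e.symm a₀) (by rw [key]; exact (hmem _).mp h₁)
    (by rw [Polynomial.derivative_map, key, isUnit_map_iff]; exact h₂)
  refine ⟨e a, e.symm.injective ?_, ?_⟩
  · rw [← key, e.symm_apply_apply, map_zero]
    exact ha
  · rw [hmem, map_sub, e.symm_apply_apply]
    exact ha'

lemma isStrictlyHenselian_of_ringEquiv {R S : Type u} [CommRing R] [CommRing S] (e : R ≃+* S)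
    (h : EtCoh.IsStrictlyHenselianLocalRing R) : EtCoh.IsStrictlyHenselianLocalRing S := by
  obtain ⟨hR, hk⟩ := h
  have hS := henselianLocalRing_of_ringEquiv e
  exact ⟨hS, Lib.Henselian.StrictHenselization.isSepClosed_of_ringEquiv
    (IsLocalRing.ResidueField.mapEquiv e)⟩

lemma zeroLocus_vanishingIdeal_closedPoints {R : Type u} [CommRing R]
    (hR : ProEtW.IsWLocal (PrimeSpectrum R)) :
    PrimeSpectrum.zeroLocus (R := R)
      (PrimeSpectrum.vanishingIdeal (ProEtW.closedPoints (PrimeSpectrum R))) =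
      ProEtW.closedPoints (PrimeSpectrum R) := by
  rw [PrimeSpectrum.zeroLocus_vanishingIdeal_eq_closure]
  exact IsClosed.closure_eq hR.2.1

lemma mem_zeroLocus_map {R S : Type u} [CommRing R] [CommRing S] (f : R →+* S) (I : Ideal R)
    (q : PrimeSpectrum S) : q ∈ PrimeSpectrum.zeroLocus (R := S) (I.map f) ↔
      PrimeSpectrum.comap f q ∈ PrimeSpectrum.zeroLocus (R := R) I := by
  rw [PrimeSpectrum.mem_zeroLocus, PrimeSpectrum.mem_zeroLocus, SetLike.coe_subset_coe,
    SetLike.coe_subset_coe, Ideal.map_le_iff_le_comap]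
  rfl

/-- Every ring has a faithfully flat ind-etale extension with w-local spectrum, strictly henselian
at all maximal ideals, whose closed points cover the spectrum. -/
theorem exists_cover (A : Type u) [CommRing A] :
    ∃ (C : Type u) (_ : CommRing C) (_ : Algebra A C),
      Module.FaithfullyFlat A C ∧ EtPBC.IsIndEtale A C ∧ ProEtW.IsWLocal (PrimeSpectrum C) ∧
      PrimeSpectrum.comap (algebraMap A C) '' ProEtW.closedPoints (PrimeSpectrum C) = Set.univ ∧
      ∀ (m : Ideal C) [m.IsMaximal],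
        EtCoh.IsStrictlyHenselianLocalRing (Localization.AtPrime m) := by
  haveI := Cons.totallySeparatedSpace A
  obtain ⟨A₁, _, _, hZ₁, hwl₁, honto₁⟩ : ∃ (A₁ : Type u) (_ : CommRing A₁) (_ : Algebra A A₁),
      EtPBC.IsIndZariski A A₁ ∧ ProEtW.IsWLocal (PrimeSpectrum A₁) ∧
      ∀ x : PrimeSpectrum A, ∃ y : PrimeSpectrum A₁, IsClosed ({y} : Set (PrimeSpectrum A₁)) ∧
        PrimeSpectrum.comap (algebraMap A A₁) y = x := by
    refine ⟨AW.Ring (Cons.h A), inferInstance, inferInstance, AW.isIndZariski,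
      AW.isWLocal (Cons.consContinuous_h A), fun x => ?_⟩
    obtain ⟨t, rfl⟩ := (Cons.bijective_h A).2 x
    exact ⟨AW.closedPt t, AW.isClosed_closedPt (Cons.consContinuous_h A) t, AW.comap_closedPt t⟩
  let C₁ := EtaleClosure.Lim A₁
  letI : Algebra A C₁ := ((algebraMap A₁ C₁).comp (algebraMap A A₁)).toAlgebra
  haveI : IsScalarTower A A₁ C₁ := .of_algebraMap_eq fun _ => rfl
  have hff₁ := EtaleClosure.faithfullyFlat A₁
  have hres := AlgRes.of_factorsEtale (EtaleClosure.factorsEtale A₁)
  set I := PrimeSpectrum.vanishingIdeal (ProEtW.closedPoints (PrimeSpectrum A₁))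
  have hV : ∀ q : PrimeSpectrum C₁, q ∈ PrimeSpectrum.zeroLocus (R := C₁) (I.map (algebraMap A₁ C₁)) ↔
      IsClosed ({PrimeSpectrum.comap (algebraMap A₁ C₁) q} : Set (PrimeSpectrum A₁)) := fun q => by
    rw [mem_zeroLocus_map, zeroLocus_vanishingIdeal_closedPoints hwl₁]
    rfl
  have hcl : PrimeSpectrum.zeroLocus (R := C₁) (I.map (algebraMap A₁ C₁)) ⊆
      ProEtW.closedPoints (PrimeSpectrum C₁) := fun q hq =>
    Rel.isClosed_singleton_of_comap hres q ((hV q).mp hq)
  obtain ⟨C, _, _, hZ, -, hwl, hzero, hsurj⟩ := Rel.core (I.map (algebraMap A₁ C₁)) hcl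
  letI : Algebra A C := ((algebraMap C₁ C).comp (algebraMap A C₁)).toAlgebra
  haveI : IsScalarTower A C₁ C := .of_algebraMap_eq fun _ => rfl
  have hind : EtPBC.IsIndEtale A C := Basic.trans (B := C₁)
    (Basic.trans (Zariski.isIndEtale hZ₁) (Basic.of_factors (EtaleClosure.factorsEtale A₁)))
    (Zariski.isIndEtale hZ)
  have honto : PrimeSpectrum.comap (algebraMap A C) '' ProEtW.closedPoints (PrimeSpectrum C) =
      Set.univ := by
    refine eq_univ_of_forall fun x => ?_
    obtain ⟨y, hy, rfl⟩ := honto₁ x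
    obtain ⟨z, rfl⟩ := PrimeSpectrum.comap_surjective_of_faithfullyFlat (B := C₁) y
    obtain ⟨P, hP, rfl⟩ := hsurj z ((hV z).mpr hy)
    refine ⟨P, hP, ?_⟩
    rw [← PrimeSpectrum.comap_comp_apply, ← PrimeSpectrum.comap_comp_apply]
    rfl
  have hflat : Module.Flat A C := Basic.flat (Basic.factors hind)
  refine ⟨C, inferInstance, inferInstance,
    Module.FaithfullyFlat.of_comap_surjective fun x => ?_, hind, hwl, honto, fun m hm => ?_⟩
  · obtain ⟨P, -, hP⟩ := honto.ge (mem_univ x)
    exact ⟨P, hP⟩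
  · let P : PrimeSpectrum C := ⟨m, hm.isPrime⟩
    have hP : IsClosed ({P} : Set (PrimeSpectrum C)) :=
      (PrimeSpectrum.isClosed_singleton_iff_isMaximal P).mpr hm
    have hq : (m.comap (algebraMap C₁ C)).IsMaximal :=
      (PrimeSpectrum.isClosed_singleton_iff_isMaximal
        (PrimeSpectrum.comap (algebraMap C₁ C) P)).mp (hcl ((hzero P).mp hP))
    exact isStrictlyHenselian_of_ringEquiv (RingEquiv.ofBijective _
      ((Ident.bijective_iff (A := C₁) m).mpr (Ident.of_factorsZar (Zariski.factors hZ) m)))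
      (Groth.Agent.S0675.result C₁ (EtaleClosure.hasEtaleRetractions A₁) _)

theorem main (A B : Type u) [CommRing A] [CommRing B] [Algebra A B]
    (h : ProEtW.AlgebraicResidueExtensions A B) :
    ∃ (C D : Type u) (_ : CommRing C) (_ : CommRing D) (_ : Algebra A C) (_ : Algebra B D)
      (_ : Algebra C D) (_ : Algebra A D) (_ : IsScalarTower A C D) (_ : IsScalarTower A B D),
      Module.FaithfullyFlat A C ∧ EtPBC.IsIndEtale A C ∧ Module.FaithfullyFlat B D ∧
      EtPBC.IsIndEtale B D ∧ ProEtW.IsWLocal (PrimeSpectrum C) ∧ ProEtW.IsWLocal (PrimeSpectrum D) ∧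
      ProEtW.IsWLocalMap (PrimeSpectrum.comap (algebraMap C D)) ∧
      ProEtW.closedPoints (PrimeSpectrum D) =
        PrimeSpectrum.comap (algebraMap C D) ⁻¹' ProEtW.closedPoints (PrimeSpectrum C) ∧
      PrimeSpectrum.comap (algebraMap A C) '' ProEtW.closedPoints (PrimeSpectrum C) = Set.univ ∧
      PrimeSpectrum.comap (algebraMap B D) '' ProEtW.closedPoints (PrimeSpectrum D) = Set.univ ∧
      ∀ (m : Ideal C) [m.IsMaximal],
        EtCoh.IsStrictlyHenselianLocalRing (Localization.AtPrime m) := by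
  obtain ⟨C, _, _, hff, hind, hwl, honto, hsh⟩ := exists_cover A
  letI : Algebra C (B ⊗[A] C) :=
    (Algebra.TensorProduct.includeRight (R := A) (A := B) (B := C)).toRingHom.toAlgebra
  have hres := AlgRes.baseChange (B := B) C h
  set I := PrimeSpectrum.vanishingIdeal (ProEtW.closedPoints (PrimeSpectrum C))
  have hV : ∀ q : PrimeSpectrum (B ⊗[A] C),
      q ∈ PrimeSpectrum.zeroLocus (R := B ⊗[A] C) (I.map (algebraMap C (B ⊗[A] C))) ↔
      IsClosed ({PrimeSpectrum.comap (algebraMap C (B ⊗[A] C)) q} : Set (PrimeSpectrum C)) := fun q => by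
    rw [mem_zeroLocus_map, zeroLocus_vanishingIdeal_closedPoints hwl]
    rfl
  have hcl : PrimeSpectrum.zeroLocus (R := B ⊗[A] C) (I.map (algebraMap C (B ⊗[A] C))) ⊆
      ProEtW.closedPoints (PrimeSpectrum (B ⊗[A] C)) := fun q hq =>
    Rel.isClosed_singleton_of_comap hres q ((hV q).mp hq)
  obtain ⟨D, _, _, hZ, -, hwlD, hzero, hsurj⟩ := Rel.core (I.map (algebraMap C (B ⊗[A] C))) hcl
  letI : Algebra B D := ((algebraMap (B ⊗[A] C) D).comp (algebraMap B (B ⊗[A] C))).toAlgebra
  letI : Algebra C D := ((algebraMap (B ⊗[A] C) D).comp (algebraMap C (B ⊗[A] C))).toAlgebra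
  letI : Algebra A D := ((algebraMap (B ⊗[A] C) D).comp (algebraMap A (B ⊗[A] C))).toAlgebra
  haveI : IsScalarTower B (B ⊗[A] C) D := .of_algebraMap_eq fun _ => rfl
  haveI : IsScalarTower A B D := .of_algebraMap_eq fun _ => rfl
  haveI : IsScalarTower A C D := .of_algebraMap_eq fun a => congrArg (algebraMap (B ⊗[A] C) D)
    ((Algebra.TensorProduct.includeRight (R := A) (A := B) (B := C)).commutes a).symm
  have hindD : EtPBC.IsIndEtale B D :=
    Basic.trans (Basic.baseChange B hind) (Zariski.isIndEtale hZ)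
  have hCD : ∀ P : PrimeSpectrum D, PrimeSpectrum.comap (algebraMap C D) P =
      PrimeSpectrum.comap (algebraMap C (B ⊗[A] C))
        (PrimeSpectrum.comap (algebraMap (B ⊗[A] C) D) P) := fun P =>
    PrimeSpectrum.comap_comp_apply _ _ _
  have hclD : ∀ P : PrimeSpectrum D, IsClosed ({P} : Set _) ↔
      IsClosed ({PrimeSpectrum.comap (algebraMap C D) P} : Set (PrimeSpectrum C)) := fun P => by
    rw [hzero, hV, hCD]
  have hontoD : PrimeSpectrum.comap (algebraMap B D) '' ProEtW.closedPoints (PrimeSpectrum D) =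
      Set.univ := by
    refine eq_univ_of_forall fun x => ?_
    obtain ⟨c, hc, hca⟩ := honto.ge (mem_univ (PrimeSpectrum.comap (algebraMap A B) x))
    obtain ⟨Q, hQx, hQc⟩ := EtaleClosure.exists_comap (R := A) x c hca.symm
    obtain ⟨P, hP, rfl⟩ := hsurj Q ((hV Q).mpr (by
      rw [show PrimeSpectrum.comap (algebraMap C (B ⊗[A] C)) Q = c from hQc]
      exact hc))
    exact ⟨P, hP, (PrimeSpectrum.comap_comp_apply _ _ _).trans hQx⟩
  have hflat : Module.Flat B D := Basic.flat (Basic.factors hindD)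
  refine ⟨C, D, inferInstance, inferInstance, inferInstance, inferInstance, inferInstance,
    inferInstance, inferInstance, inferInstance, hff, hind,
    Module.FaithfullyFlat.of_comap_surjective fun x => ?_, hindD, hwl, hwlD,
    ⟨Cover.isSpectralMap_comap _, fun P hP => (hclD P).mp hP⟩, Set.ext fun P => hclD P, honto,
    hontoD, hsh⟩
  obtain ⟨P, -, hP⟩ := hontoD.ge (mem_univ x)
  exact ⟨P, hP⟩

end Groth.Agent.Lib.WLocal.SHCover
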